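import Cfsg.Agent.Lib.Solv.EPPOSeven.Basic
import Cfsg.Agent.Lib.Lie.FixityTwoSylow
import Cfsg.Agent.Lib.Char.BSW.DihedralWall
import Cfsg.Agent.S1213

/-!
Simple groups with 2-group involution centralizers and a self-centralizing four-group.
-/

set_option autoImplicit false
set_option linter.style.haveILetI false

namespace Cfsg.Agent.Solv.EPPOSeven

open Cfsg

universe u

variable {G : Type u} [Group G] [Finite G]

theorem not_simple_abelian [IsSimpleGroup G] (hna : ∃ a b : G, a * b ≠ b * a) {H : Subgroup G}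
    (hH : H.index = 2) : False := by
  haveI := Subgroup.normal_of_index_eq_two hH
  rcases IsSimpleGroup.eq_bot_or_eq_top_of_normal H inferInstance with e | e
  · subst e
    rw [Subgroup.index_bot] at hH
    obtain ⟨a, b, hab⟩ := hna
    haveI : Fact (Nat.Prime 2) := ⟨Nat.prime_two⟩
    haveI := isCyclic_of_prime_card hH
    exact hab ((IsCyclic.commGroup (α := G)).mul_comm a b)
  · rw [e, Subgroup.index_top] at hH
    omega

/-- With a self-centralizing four-group the group is a linear group. -/
theorem psl_of_four [IsSimpleGroup G] (hna : ∃ a b : G, a * b ≠ b * a) (hO : Ord G) (V : Subgroup G)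
    (hV4 : Nat.card V = 4) (hVsq : ∀ v ∈ V, v * v = 1) (hVC : Subgroup.centralizer (V : Set G) = V) :
    ∃ (F : Type) (_ : Field F) (_ : Fintype F),
      Nonempty (G ≃* Matrix.ProjectiveSpecialLinearGroup (Fin 2) F) := by
  classical
  haveI : Fact (Nat.Prime 2) := ⟨Nat.prime_two⟩
  haveI := Fintype.ofFinite G
  have hV2 : IsPGroup 2 V := IsPGroup.of_card (n := 2) (by rw [hV4]; norm_num)
  obtain ⟨T, hT⟩ := hV2.exists_le_sylow
  haveI : Nontrivial (T : Subgroup G) := by
    rw [Subgroup.nontrivial_iff_ne_bot]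
    intro e
    rw [le_bot_iff.1 (hT.trans e.le), Subgroup.card_bot] at hV4
    norm_num at hV4
  haveI := T.isPGroup'.center_nontrivial
  obtain ⟨n, hn0, hn⟩ := (T.isPGroup'.to_subgroup (Subgroup.center (T : Subgroup G))).nontrivial_iff_card.1
    inferInstance
  obtain ⟨z₀, hz₀⟩ := exists_prime_orderOf_dvd_card' (G := Subgroup.center (T : Subgroup G)) 2
    (hn ▸ dvd_pow_self 2 hn0.ne')
  set z : G := ((z₀ : (T : Subgroup G)) : G) with hzdef
  have hz : orderOf z = 2 := by rw [hzdef, Subgroup.orderOf_coe, Subgroup.orderOf_coe, hz₀]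
  have hzT : ∀ s ∈ (T : Subgroup G), s * z = z * s := fun s hs =>
    congrArg Subtype.val (Subgroup.mem_center_iff.1 z₀.2 ⟨s, hs⟩)
  have hzV : z ∈ V := by
    rw [← hVC]
    exact Subgroup.mem_centralizer_iff.2 fun v hv => hzT v (hT hv)
  obtain ⟨u, hu, hu1, huz⟩ : ∃ u, u ∈ V ∧ u ≠ 1 ∧ u ≠ z := by
    by_contra hno
    push Not at hno
    have : Nat.card V ≤ 2 := by
      refine le_trans (Nat.card_le_card_of_injective
        (fun v : V => decide ((v : G) = 1)) fun a b e => ?_) (by simp)
      simp only [decide_eq_decide] at e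
      by_cases ha : (a : G) = 1
      · exact Subtype.ext (ha.trans (e.1 ha).symm)
      · exact Subtype.ext ((hno a a.2 ha).trans (hno b b.2 fun hb => ha (e.2 hb)).symm)
    omega
  have hcu : Nat.card (Subgroup.centralizer ({(⟨u, hT hu⟩ : (T : Subgroup G))} : Set (T : Subgroup G))) = 4 := by
    have hcomm : ∀ v ∈ V, v * u = u * v := fun v hv => Subgroup.mem_centralizer_iff.1 (hVC.ge hu) v hv
    rw [← hV4]
    refine Nat.card_congr
      { toFun := fun x => ⟨((x : (T : Subgroup G)) : G), ?_⟩
        invFun := fun v => ⟨⟨v, hT v.2⟩, Subgroup.mem_centralizer_singleton_iff.2 (Subtype.ext (hcomm v v.2))⟩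
        left_inv := fun x => rfl
        right_inv := fun v => rfl }
    rw [← hVC]
    refine Subgroup.mem_centralizer_iff.2 fun v hv => ?_
    set g : G := ((x : (T : Subgroup G)) : G)
    have hgu : u * g = g * u :=
      (congrArg Subtype.val (Subgroup.mem_centralizer_singleton_iff.1 x.2)).symm
    have hgz : z * g = g * z := (hzT g (x : (T : Subgroup G)).2).symm
    -- `V` is generated by `z` and `u`
    have hle : Subgroup.closure ({z, u} : Set G) = V := by
      refine Subgroup.eq_of_le_of_card_ge ((Subgroup.closure_le _).2 (by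
        rintro w (rfl | rfl) <;> assumption)) ?_
      have h1 := Subgroup.card_dvd_of_le ((Subgroup.closure_le V).2 (by
        rintro w (rfl | rfl) <;> assumption) : Subgroup.closure ({z, u} : Set G) ≤ V)
      rw [hV4] at h1 ⊢
      have hz' : z ∈ Subgroup.closure ({z, u} : Set G) := Subgroup.subset_closure (Or.inl rfl)
      have hu' : u ∈ Subgroup.closure ({z, u} : Set G) := Subgroup.subset_closure (Or.inr rfl)
      have hz1 : z ≠ 1 := fun e => by rw [e, orderOf_one] at hz; omega
      have h3 : 3 ≤ Nat.card (Subgroup.closure ({z, u} : Set G)) := by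
        haveI := Fintype.ofFinite (Subgroup.closure ({z, u} : Set G))
        rw [Nat.card_eq_fintype_card]
        exact Fintype.two_lt_card_iff.2 ⟨1, ⟨z, hz'⟩, ⟨u, hu'⟩, fun e => hz1 (congrArg Subtype.val e).symm,
          fun e => hu1 (congrArg Subtype.val e).symm, fun e => huz (congrArg Subtype.val e).symm⟩
      have := Nat.le_of_dvd (by norm_num) h1
      interval_cases (Nat.card (Subgroup.closure ({z, u} : Set G))) <;> simp_all
    have : g ∈ Subgroup.centralizer ({z, u} : Set G) := Subgroup.mem_centralizer_iff.2 (by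
      rintro w (rfl | rfl) <;> assumption)
    rw [← Subgroup.centralizer_closure, hle] at this
    exact Subgroup.mem_centralizer_iff.1 this v hv
  rcases Lie.FixityTwoSylow.dihedral_or_cyclic T.isPGroup' (Subtype.ext (hVsq u hu)) hcu with
    (⟨m, ⟨e⟩⟩ | hqd) | ⟨hcyc, -⟩
  · have hm : 2 ≤ m := by
      have h1 := Nat.card_congr e.toEquiv
      rw [DihedralGroup.nat_card] at h1
      have h2 := Subgroup.card_dvd_of_le hT
      rw [hV4, h1] at h2
      have h3 : 0 < 2 * m := h1 ▸ Nat.card_pos
      have := Nat.le_of_dvd h3 h2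
      omega
    have hOb : (Cfsg.oddCore (Subgroup.centralizer ({z} : Set G))).map
        (Subgroup.centralizer ({z} : Set G)).subtype = ⊥ := by
      rw [Subgroup.map_eq_bot_iff_of_injective _ (Subgroup.subtype_injective _)]
      have hc := pPrimeCore_coprime (G := Subgroup.centralizer ({z} : Set G)) 2
      obtain ⟨k, hk⟩ := IsPGroup.iff_card.1
        ((isPGroup_centralizer hO.ipp hz).to_subgroup (Cfsg.pPrimeCore 2 (Subgroup.centralizer ({z} : Set G))))
      rcases k with _ | k
      · exact Subgroup.card_eq_one.1 hk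
      · rw [hk] at hc
        exact absurd (hc.symm.eq_one_of_dvd (dvd_pow_self 2 k.succ_ne_zero)) (by norm_num)
    obtain ⟨F, i1, i2, -, hiso⟩ := Char.BSW.psl_of_dihedral_wall T hm e hz (z₀ : (T : Subgroup G)).2 hzT ⊥
      hOb.symm (fun h => absurd rfl h)
      (fun s _ hs => absurd (Subgroup.mem_centralizer_iff.2 fun w hw => by
        rw [Subgroup.mem_bot.1 hw, one_mul, mul_one]) hs)
      (fun Y hY hne => absurd (le_bot_iff.1 hY) hne)
    exact ⟨F, i1, i2, hiso⟩
  · exfalso
    obtain ⟨R, -, ⟨K, -, -, hK2, hKq⟩, -⟩ := S1213.result T (Or.inl hqd)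
      (fun H hH => not_simple_abelian hna hH) z hz
    have hK : IsPGroup 2 K := (isPGroup_centralizer hO.ipp hz).to_subgroup K
    obtain ⟨P⟩ : Nonempty (Sylow 2 K) := inferInstance
    obtain ⟨m, hm, ⟨e⟩⟩ := hKq P
    obtain ⟨k, hk⟩ := IsPGroup.iff_card.1 hK
    have hPc := P.card_eq_multiplicity
    rw [Nat.card_congr e.toEquiv, hk, Nat.prime_two.factorization_pow, Finsupp.single_eq_same] at hPc
    obtain ⟨H, hH⟩ := Sylow.exists_subgroup_card_pow_prime (G := K) 2 (n := k - 1)
      (hk ▸ Nat.pow_dvd_pow 2 (Nat.sub_le k 1))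
    refine hK2 H ?_
    haveI : NeZero (2 ^ m) := ⟨pow_ne_zero _ two_ne_zero⟩
    have hk1 : 1 ≤ k := by
      by_contra hlt
      have : k = 0 := by omega
      subst this
      rw [Nat.card_eq_fintype_card, QuaternionGroup.card] at hPc
      have := Nat.one_le_two_pow (n := m)
      omega
    obtain ⟨j, rfl⟩ : ∃ j, k = j + 1 := ⟨k - 1, by omega⟩
    have h1 := H.card_mul_index
    rw [hH, hk, Nat.add_sub_cancel, pow_succ] at h1
    exact Nat.eq_of_mul_eq_mul_left (pow_pos two_pos j) h1
  · exfalso
    haveI := hcyc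
    have h := IsCyclic.card_pow_eq_one_le (α := (T : Subgroup G)) (n := 2) two_pos
    have hz1 : z ≠ 1 := fun e => by rw [e, orderOf_one] at hz; omega
    have h3 : ({1, ⟨z, hT hzV⟩, ⟨u, hT hu⟩} : Finset (T : Subgroup G)).card = 3 :=
      Finset.card_eq_three.2 ⟨_, _, _, fun e => hz1 (congrArg Subtype.val e).symm,
        fun e => hu1 (congrArg Subtype.val e).symm, fun e => huz (congrArg Subtype.val e).symm, rfl⟩
    have hsub : ({1, ⟨z, hT hzV⟩, ⟨u, hT hu⟩} : Finset (T : Subgroup G)) ⊆
        Finset.univ.filter (fun a => a ^ 2 = 1) := by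
      intro a ha
      simp only [Finset.mem_insert, Finset.mem_singleton] at ha
      refine Finset.mem_filter.2 ⟨Finset.mem_univ _, ?_⟩
      rcases ha with rfl | rfl | rfl
      · exact one_pow 2
      · exact Subtype.ext ((pow_two z).trans (hVsq z hzV))
      · exact Subtype.ext ((pow_two u).trans (hVsq u hu))
    have := Finset.card_le_card hsub
    omega

end Cfsg.Agent.Solv.EPPOSeven
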