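import Cfsg.Agent.Lib.Solv.EPPO
import Cfsg.Agent.Lib.Char.Burnside

/-!
Finite groups whose nonidentity elements have order a power of two or an odd prime other than five.
-/

set_option autoImplicit false
set_option linter.style.haveILetI false

namespace Cfsg.Agent.Solv.EPPOSeven

open Cfsg

universe u v

/-- Every nonidentity element has order a power of `2` or a prime other than `5`. -/
def Ord (G : Type u) [Group G] : Prop :=
  ∀ g : G, g ≠ 1 → (∃ k : ℕ, orderOf g = 2 ^ k) ∨ ((orderOf g).Prime ∧ orderOf g ≠ 5)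

variable {G : Type u} [Group G]

theorem Ord.of_injective {H : Type v} [Group H] (h : Ord G) (f : H →* G) (hf : Function.Injective f) :
    Ord H := fun x hx => by
  have := h (f x) fun e => hx (hf (e.trans f.map_one.symm))
  rwa [orderOf_injective f hf] at this

theorem Ord.subgroup (h : Ord G) (H : Subgroup G) : Ord H := h.of_injective H.subtype H.subtype_injective

theorem Ord.of_surjective {H : Type v} [Group H] (h : Ord G) (f : G →* H) (hf : Function.Surjective f) :
    Ord H := fun y hy => by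
  obtain ⟨x, rfl⟩ := hf y
  have hd := orderOf_map_dvd f x
  rcases h x (fun e => hy (by rw [e, map_one])) with ⟨k, hk⟩ | ⟨hp, h5⟩
  · rw [hk] at hd
    obtain ⟨j, -, hj⟩ := (Nat.dvd_prime_pow Nat.prime_two).1 hd
    exact Or.inl ⟨j, hj⟩
  · rcases hp.eq_one_or_self_of_dvd _ hd with e | e
    · exact absurd (orderOf_eq_one_iff.1 e) hy
    · exact Or.inr ⟨e.symm ▸ hp, e.symm ▸ h5⟩

theorem Ord.quotient (h : Ord G) (N : Subgroup G) [N.Normal] : Ord (G ⧸ N) :=
  h.of_surjective (QuotientGroup.mk' N) (QuotientGroup.mk'_surjective N)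

theorem Ord.ipp (h : Ord G) : ∀ g : G, g ≠ 1 → IsPrimePow (orderOf g) := fun g hg => by
  rcases h g hg with ⟨k, hk⟩ | ⟨hp, -⟩
  · rw [hk]
    refine (isPrimePow_nat_iff _).2 ⟨2, k, Nat.prime_two, Nat.pos_of_ne_zero fun e => hg ?_, rfl⟩
    rw [e, pow_zero] at hk
    exact orderOf_eq_one_iff.1 hk
  · exact hp.isPrimePow

/-- The elements of odd prime power order have prime order. -/
theorem Ord.pow_eq_one (h : Ord G) {p : ℕ} (hp : p.Prime) (hp2 : p ≠ 2) {g : G} {k : ℕ}
    (hg : orderOf g = p ^ k) : g ^ p = 1 := by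
  by_cases hg1 : g = 1
  · rw [hg1, one_pow]
  rcases h g hg1 with ⟨j, hj⟩ | ⟨hq, -⟩
  · rw [hg] at hj
    rcases k with _ | k
    · exact absurd (orderOf_eq_one_iff.1 (hg.trans (pow_zero p))) hg1
    · have := (Nat.prime_dvd_prime_iff_eq hp Nat.prime_two).1
        (hp.dvd_of_dvd_pow (hj ▸ dvd_pow_self p (Nat.succ_ne_zero k)))
      exact absurd this hp2
  · rw [hg] at hq
    rw [← orderOf_dvd_iff_pow_eq_one, hg]
    rcases k with _ | _ | k
    · exact one_dvd _
    · rw [pow_one]
    · exact absurd hq (Nat.Prime.not_prime_pow (by omega))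

theorem Ord.exponent_odd [Finite G] (h : Ord G) {p : ℕ} [Fact p.Prime] (hp2 : p ≠ 2) {H : Subgroup G}
    (hH : IsPGroup p H) : ∀ x ∈ H, x ^ p = 1 := fun x hx => by
  obtain ⟨k, hk⟩ := (IsPGroup.iff_orderOf.1 hH) ⟨x, hx⟩
  rw [Subgroup.orderOf_mk] at hk
  exact h.pow_eq_one Fact.out hp2 hk

theorem Ord.not_five [Finite G] (h : Ord G) : ¬ 5 ∣ Nat.card G := fun hd => by
  haveI : Fact (Nat.Prime 5) := ⟨by norm_num⟩
  obtain ⟨x, hx⟩ := exists_prime_orderOf_dvd_card' 5 hd
  rcases h x (fun e => by rw [e, orderOf_one] at hx; omega) with ⟨k, hk⟩ | ⟨-, h5⟩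
  · rw [hx] at hk
    have := (Nat.prime_dvd_prime_iff_eq (by norm_num : Nat.Prime 5) Nat.prime_two).1
      ((by norm_num : Nat.Prime 5).dvd_of_dvd_pow (show 5 ∣ 2 ^ k by rw [← hk]))
    omega
  · exact h5 hx

/-- The centralizer of a nonidentity element of prime power order is a group of the same prime. -/
theorem isPGroup_centralizer [Finite G] (hpp : ∀ g : G, g ≠ 1 → IsPrimePow (orderOf g)) {p : ℕ}
    [Fact p.Prime] {x : G} (hx : orderOf x = p) : IsPGroup p (Subgroup.centralizer ({x} : Set G)) := by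
  intro y
  obtain ⟨y, hy⟩ := y
  by_cases hy1 : y = 1
  · exact ⟨0, by rw [pow_zero, pow_one]; exact Subtype.ext hy1⟩
  obtain ⟨r, k, hr, hk0, hk⟩ := (isPrimePow_def _).1 (hpp y hy1)
  have hr' : r.Prime := Nat.prime_iff.2 hr
  have hrp : r = p :=
    EPPO.prime_eq_of_commute hpp hr' Fact.out
      (orderOf_pow_orderOf_div (orderOf_pos y).ne' (hk ▸ dvd_pow_self r hk0.ne')) hx
      ((show Commute y x from Subgroup.mem_centralizer_singleton_iff.1 hy).pow_left _)
  exact ⟨k, Subtype.ext (show y ^ p ^ k = 1 by rw [← hrp, hk, pow_orderOf_eq_one])⟩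

theorem isPGroup_centralizer_subgroup [Finite G] (hpp : ∀ g : G, g ≠ 1 → IsPrimePow (orderOf g)) {p : ℕ}
    [Fact p.Prime] {X : Subgroup G} (hX : IsPGroup p X) (hne : X ≠ ⊥) :
    IsPGroup p (Subgroup.centralizer (X : Set G)) := by
  haveI : Nontrivial X := (Subgroup.nontrivial_iff_ne_bot X).2 hne
  obtain ⟨n, hn0, hn⟩ := hX.nontrivial_iff_card.1 inferInstance
  obtain ⟨x, hx⟩ := exists_prime_orderOf_dvd_card' (G := X) p (hn ▸ dvd_pow_self p hn0.ne')
  refine (isPGroup_centralizer hpp (x := (x : G)) (by rw [Subgroup.orderOf_coe, hx])).to_le ?_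
  exact Subgroup.centralizer_le (by simp [x.2])

theorem normalizer_le_of_char {P : Subgroup G} (C : Subgroup P) [C.Characteristic] :
    Subgroup.normalizer (P : Set G) ≤ Subgroup.normalizer ((C.map P.subtype : Subgroup G) : Set G) := by
  intro g hg
  have key : ∀ g ∈ Subgroup.normalizer (P : Set G), ∀ x ∈ C.map P.subtype, g * x * g⁻¹ ∈ C.map P.subtype := by
    rintro g hg _ ⟨c, hc, rfl⟩
    let σ : MulAut P := P.normalizerMonoidHom ⟨g, hg⟩
    refine ⟨σ c, Subgroup.characteristic_iff_le_comap.1 inferInstance σ hc, ?_⟩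
    rfl
  refine Subgroup.mem_normalizer_iff.2 fun x => ⟨key g hg x, fun h => ?_⟩
  have := key g⁻¹ (inv_mem hg) _ h
  rwa [show g⁻¹ * (g * x * g⁻¹) * g⁻¹⁻¹ = x by group] at this

theorem solvable_of_two_primes [Finite G] (h : (Nat.card G).primeFactors.card ≤ 2) : Group.IsSolvable G := by
  obtain ⟨p, q, hp, hq, hpq⟩ : ∃ p q : ℕ, p.Prime ∧ q.Prime ∧
      ∀ r ∈ (Nat.card G).primeFactors, r = p ∨ r = q := by
    rcases (show (Nat.card G).primeFactors.card = 0 ∨ (Nat.card G).primeFactors.card = 1 ∨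
      (Nat.card G).primeFactors.card = 2 by omega) with e | e | e
    · exact ⟨2, 2, Nat.prime_two, Nat.prime_two, fun r hr => by simp [Finset.card_eq_zero.1 e] at hr⟩
    · obtain ⟨a, ha⟩ := Finset.card_eq_one.1 e
      have hap : a.Prime := Nat.prime_of_mem_primeFactors (ha.symm ▸ Finset.mem_singleton_self a)
      exact ⟨a, a, hap, hap, fun r hr => Or.inl (Finset.mem_singleton.1 (ha ▸ hr))⟩
    · obtain ⟨a, b, -, hab⟩ := Finset.card_eq_two.1 e
      have ha : a ∈ (Nat.card G).primeFactors := by simp [hab]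
      have hb : b ∈ (Nat.card G).primeFactors := by simp [hab]
      refine ⟨a, b, Nat.prime_of_mem_primeFactors ha,
        Nat.prime_of_mem_primeFactors hb, fun r hr => ?_⟩
      rw [hab] at hr
      simpa using hr
  exact Char.isSolvable_of_two_primes hp hq (Nat.card G) rfl fun r hr hd =>
    hpq r (Nat.mem_primeFactors.2 ⟨hr, hd, Nat.card_pos.ne'⟩)

end Cfsg.Agent.Solv.EPPOSeven
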