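import Cfsg.Agent.Lib.Solv.EPPOSeven.LocalChar
import Cfsg.Prelude.Def_Involutions

/-!
A strongly embedded 2-local subgroup when there is no self-centralizing four-group.
-/

set_option autoImplicit false
set_option linter.style.haveILetI false
set_option linter.unusedSectionVars false

namespace Cfsg.Agent.Solv.EPPOSeven

open Cfsg

universe u

variable {G : Type u} [Group G] [Finite G]

/-- A normal `2`-subgroup lies in every Sylow 2-subgroup. -/
theorem normal_le_sylow {N : Subgroup G} [N.Normal] (hN : IsPGroup 2 N) (P : Sylow 2 G) :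
    N ≤ (P : Subgroup G) := by
  haveI : Fact (Nat.Prime 2) := ⟨Nat.prime_two⟩
  obtain ⟨Q, hQ⟩ := hN.exists_le_sylow
  obtain ⟨g, hg⟩ := MulAction.exists_smul_eq G Q P
  intro d hd
  rw [← hg]
  refine ⟨g⁻¹ * d * g⁻¹⁻¹, hQ (Subgroup.Normal.conj_mem inferInstance d hd g⁻¹), ?_⟩
  show g * (g⁻¹ * d * g⁻¹⁻¹) * g⁻¹ = d
  group

/-- The normalizer condition inside a 2-group. -/
theorem exists_gt_normalizing {P Q : Subgroup G} (hQ : IsPGroup 2 Q) (hlt : P < Q) :
    P < Q ⊓ Subgroup.normalizer (P : Set G) := by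
  haveI : Fact (Nat.Prime 2) := ⟨Nat.prime_two⟩
  haveI := hQ.isNilpotent
  have h1 : P.subgroupOf Q < ⊤ := by
    refine lt_top_iff_ne_top.2 fun e => hlt.not_ge ?_
    exact Subgroup.subgroupOf_eq_top.1 e
  have h2 := Group.normalizerCondition_of_isNilpotent (P.subgroupOf Q) h1
  refine lt_of_le_of_ne (le_inf hlt.le Subgroup.le_normalizer) fun e => ?_
  obtain ⟨x, hx, hxP⟩ := SetLike.exists_of_lt h2
  refine hxP (Subgroup.mem_subgroupOf.2 (e.ge ⟨x.2, Subgroup.mem_normalizer_iff.2 fun y => ?_⟩))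
  have key := Subgroup.mem_normalizer_iff.1 hx
  refine ⟨fun hy => ?_, fun hy => ?_⟩
  · exact (key ⟨y, hlt.le hy⟩).1 hy
  · have hyQ : y ∈ Q := by
      have := mul_mem (mul_mem (inv_mem x.2) (hlt.le hy)) x.2
      rwa [show (x : G)⁻¹ * ((x : G) * y * (x : G)⁻¹) * x = y by group] at this
    exact (key ⟨y, hyQ⟩).2 hy

/-- The conjugate of a subgroup. -/
abbrev conjS (g : G) (H : Subgroup G) : Subgroup G := H.map (MulAut.conj g).toMonoidHom

theorem mem_conjS {g x : G} {H : Subgroup G} : x ∈ conjS g H ↔ g⁻¹ * x * g ∈ H := by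
  refine ⟨?_, fun h => ⟨_, h, by show g * (g⁻¹ * x * g) * g⁻¹ = x; group⟩⟩
  rintro ⟨y, hy, rfl⟩
  show g⁻¹ * (g * y * g⁻¹) * g ∈ H
  rwa [show g⁻¹ * (g * y * g⁻¹) * g = y by group]

theorem card_conjS (g : G) (H : Subgroup G) : Nat.card (conjS g H) = Nat.card H :=
  Subgroup.card_map_of_injective (MulAut.conj g).injective

theorem mem_normalizer_conjS {g x : G} {H : Subgroup G} :
    x ∈ Subgroup.normalizer ((conjS g H : Subgroup G) : Set G) ↔
      g⁻¹ * x * g ∈ Subgroup.normalizer (H : Set G) := by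
  simp only [Subgroup.mem_normalizer_iff, mem_conjS]
  constructor
  · intro h y
    have := h (g * y * g⁻¹)
    rwa [show g⁻¹ * (g * y * g⁻¹) * g = y by group,
      show g⁻¹ * (x * (g * y * g⁻¹) * x⁻¹) * g = g⁻¹ * x * g * y * (g⁻¹ * x * g)⁻¹ by group] at this
  · intro h y
    have := h (g⁻¹ * y * g)
    rwa [show g⁻¹ * x * g * (g⁻¹ * y * g) * (g⁻¹ * x * g)⁻¹ = g⁻¹ * (x * y * x⁻¹) * g by group] at this

/-- The hypotheses of the climbing argument. -/
structure Climb (G : Type u) [Group G] [Finite G] : Prop where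
  ord : Ord G
  locals : ∀ X : Subgroup G, X ≠ ⊥ → IsPGroup 2 X → Group.IsSolvable (Subgroup.normalizer (X : Set G))
  noFour : ∀ V : Subgroup G, Nat.card V = 4 → (∀ v ∈ V, v * v = 1) → Subgroup.centralizer (V : Set G) ≠ V

/-- The chosen subgroup of a subgroup. -/
noncomputable def cOf (P : Subgroup G) : Subgroup G := (cS P).map P.subtype

theorem normalizer_le_cOf (P : Subgroup G) :
    Subgroup.normalizer (P : Set G) ≤ Subgroup.normalizer ((cOf P : Subgroup G) : Set G) :=
  normalizer_le_of_char (cS P)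

variable (h : Climb G)
include h

/-- A local subgroup normalizes either its Sylow 2-subgroup or the chosen subgroup of it. -/
theorem Climb.local_le {X : Subgroup G} (hX : X ≠ ⊥) (hX2 : IsPGroup 2 X) :
    ∀ P : Sylow 2 (Subgroup.normalizer (X : Set G)),
    Subgroup.normalizer (X : Set G) ≤ Subgroup.normalizer
      ((((P : Subgroup _).map (Subgroup.normalizer (X : Set G)).subtype : Subgroup G)) : Set G) ∨
    Subgroup.normalizer (X : Set G) ≤ Subgroup.normalizer
      ((cOf ((P : Subgroup _).map (Subgroup.normalizer (X : Set G)).subtype) : Subgroup G) : Set G) := by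
  classical
  haveI : Fact (Nat.Prime 2) := ⟨Nat.prime_two⟩
  set N := Subgroup.normalizer (X : Set G) with hN
  intro P
  set Pg := (P : Subgroup N).map N.subtype with hPg
  have key : ∀ H : Subgroup N, H.Normal → N ≤ Subgroup.normalizer ((H.map N.subtype : Subgroup G) : Set G) := by
    intro H hH
    have := Subgroup.le_normalizer_map (H := H) N.subtype
    rw [@Subgroup.normalizer_eq_top _ _ H hH, ← MonoidHom.range_eq_map, Subgroup.range_subtype] at this
    exact this
  by_cases hPn : (P : Subgroup N).Normal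
  · exact Or.inl (key _ hPn)
  have hXN : X ≤ N := Subgroup.le_normalizer
  haveI : (X.subgroupOf N).Normal := ⟨fun n hn g => (Subgroup.mem_normalizer_iff.1 g.2 n).1 hn⟩
  have hXc : X.subgroupOf N ≤ Cfsg.pCore 2 N := normal_le_pCore (hX2.comap_subtype (K := N))
  have hXD : X ≤ (Cfsg.pCore 2 N).map N.subtype := by
    rw [← Subgroup.map_subgroupOf_eq_of_le hXN]
    exact Subgroup.map_mono hXc
  have hcore : Cfsg.pCore 2 N ≠ ⊥ := fun e => hX (le_bot_iff.1 (by
    rw [e, Subgroup.map_bot] at hXD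
    exact hXD))
  let τ : Pg →* N := Subgroup.inclusion (Subgroup.map_subtype_le _)
  have hrange : (P : Subgroup N) = τ.range := by
    ext w
    constructor
    · intro hw
      exact ⟨⟨w, ⟨w, hw, rfl⟩⟩, Subtype.ext rfl⟩
    · rintro ⟨⟨v, w', hw', hv⟩, rfl⟩
      have : w' = τ ⟨v, w', hw', hv⟩ := Subtype.ext hv
      rwa [← this]
  rcases local_char (h.ord.subgroup N) (h.locals X hX hX2) hcore τ (Subgroup.inclusion_injective _) P hrange hPn
    with hc | ⟨h4, hsq, hcen⟩
  · refine Or.inr ?_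
    have := key _ hc
    rwa [Subgroup.map_map] at this
  · exfalso
    refine h.noFour ((Cfsg.pCore 2 N).map N.subtype) ?_ ?_ ?_
    · rw [card_map_subtype, h4]
    · rintro _ ⟨v, hv, rfl⟩
      exact congrArg Subtype.val (hsq v hv)
    · refine le_antisymm (fun g hg => ?_) ?_
      · have hgN : g ∈ N := Subgroup.mem_normalizer_iff.2 fun y => by
          have hc : ∀ z ∈ X, g * z * g⁻¹ = z := fun z hz => by
            rw [← Subgroup.mem_centralizer_iff.1 hg z (hXD hz), mul_inv_cancel_right]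
          refine ⟨fun hy => by rw [hc y hy]; exact hy, fun hy => ?_⟩
          have h1 := hc _ hy
          have h2 : g * y * g⁻¹ = y := by
            have h3 := congrArg (fun w => g⁻¹ * w * g) h1
            rw [show g⁻¹ * (g * (g * y * g⁻¹) * g⁻¹) * g = g * y * g⁻¹ by group,
              show g⁻¹ * (g * y * g⁻¹) * g = y by group] at h3
            exact h3
          rwa [h2] at hy
        refine ⟨⟨g, hgN⟩, hcen.le (Subgroup.mem_centralizer_iff.2 fun v hv => Subtype.ext ?_), rfl⟩
        exact Subgroup.mem_centralizer_iff.1 hg v ⟨v, hv, rfl⟩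
      · rintro _ ⟨v, hv, rfl⟩
        refine Subgroup.mem_centralizer_iff.2 ?_
        rintro _ ⟨w, hw, rfl⟩
        exact congrArg Subtype.val (Subgroup.mem_centralizer_iff.1 (hcen.ge hv) w hw)

/-- Every normalizer of a nontrivial 2-subgroup of `M` lies in `M`. -/
theorem Climb.normalizer_le (T : Sylow 2 G) :
    ∀ X : Subgroup G, X ≠ ⊥ → IsPGroup 2 X → X ≤ Subgroup.normalizer ((cOf (T : Subgroup G) : Subgroup G) : Set G) →
      Subgroup.normalizer (X : Set G) ≤ Subgroup.normalizer ((cOf (T : Subgroup G) : Subgroup G) : Set G) := by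
  classical
  haveI : Fact (Nat.Prime 2) := ⟨Nat.prime_two⟩
  set M := Subgroup.normalizer ((cOf (T : Subgroup G) : Subgroup G) : Set G) with hM
  have hTM : (T : Subgroup G) ≤ M := Subgroup.le_normalizer.trans (normalizer_le_cOf _)
  have hTmax : ∀ Q : Subgroup G, IsPGroup 2 Q → Nat.card Q ≤ Nat.card (T : Subgroup G) := fun Q hQ => by
    obtain ⟨S, hS⟩ := hQ.exists_le_sylow
    calc Nat.card Q ≤ Nat.card (S : Subgroup G) :=
          Nat.card_le_card_of_injective _ (Subgroup.inclusion_injective hS)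
      _ = Nat.card (T : Subgroup G) := by rw [S.card_eq_multiplicity, T.card_eq_multiplicity]
  suffices ∀ k : ℕ, ∀ X : Subgroup G, X ≠ ⊥ → IsPGroup 2 X → X ≤ M →
      ∀ P : Subgroup G, P ≤ Subgroup.normalizer (X : Set G) ⊓ M → IsPGroup 2 P →
        Nat.card (T : Subgroup G) - Nat.card P ≤ k → Subgroup.normalizer (X : Set G) ≤ M from
    fun X hX hX2 hXM => this _ X hX hX2 hXM X (le_inf Subgroup.le_normalizer hXM) hX2 le_rfl
  intro k
  induction k using Nat.strong_induction_on with
  | _ k ih =>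
  intro X hX hX2 hXM P₀ hP₀ hP₀2 hk
  set W := Subgroup.normalizer (X : Set G) ⊓ M with hW
  obtain ⟨PW, hPW⟩ := (hP₀2.comap_subtype (K := W)).exists_le_sylow
  set P := (PW : Subgroup W).map W.subtype with hP
  have hPp : IsPGroup 2 P := PW.isPGroup'.map _
  have hPW' : P ≤ W := Subgroup.map_subtype_le _
  have hP₀P : P₀ ≤ P := by
    rw [← Subgroup.map_subgroupOf_eq_of_le hP₀]
    exact Subgroup.map_mono hPW
  haveI : (X.subgroupOf W).Normal := ⟨fun n hn g => (Subgroup.mem_normalizer_iff.1 g.2.1 n).1 hn⟩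
  have hXP : X ≤ P := by
    rw [← Subgroup.map_subgroupOf_eq_of_le (le_inf Subgroup.le_normalizer hXM : X ≤ W)]
    exact Subgroup.map_mono (normal_le_sylow (N := X.subgroupOf W) (hX2.comap_subtype (K := W)) PW)
  have hPne : P ≠ ⊥ := fun e => hX (le_bot_iff.1 (hXP.trans e.le))
  have hPmax : ∀ Q : Subgroup G, IsPGroup 2 Q → Q ≤ W → P ≤ Q → Q = P := fun Q hQ hQW hPQ => by
    have h1 : Q.subgroupOf W = (PW : Subgroup W) := PW.is_maximal' (hQ.comap_subtype (K := W)) (fun w hw =>
      hPQ ⟨w, hw, rfl⟩)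
    rw [hP, ← h1, Subgroup.map_subgroupOf_eq_of_le hQW]
  have hk' : Nat.card (T : Subgroup G) - Nat.card P ≤ k :=
    le_trans (Nat.sub_le_sub_left (Nat.card_le_card_of_injective _ (Subgroup.inclusion_injective hP₀P)) _) hk
  rcases lt_or_eq_of_le (hTmax P hPp) with hlt | heq
  · -- climb
    obtain ⟨T₁, hT₁⟩ := (hPp.comap_subtype (K := M)).exists_le_sylow
    set T' := (T₁ : Subgroup M).map M.subtype with hT'
    have hT'p : IsPGroup 2 T' := T₁.isPGroup'.map _
    have hT'c : Nat.card T' = Nat.card (T : Subgroup G) := by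
      rw [hT', card_map_subtype, T₁.card_eq_multiplicity]
      let TM : Sylow 2 M := T.subtype hTM
      rw [← TM.card_eq_multiplicity]
      exact Nat.card_congr (Subgroup.subgroupOfEquivOfLe hTM).toEquiv
    have hPT' : P < T' := by
      refine lt_of_le_of_ne ?_ fun e => by rw [e, hT'c] at hlt; exact lt_irrefl _ hlt
      rw [← Subgroup.map_subgroupOf_eq_of_le (hPW'.trans inf_le_right)]
      exact Subgroup.map_mono hT₁
    set Q := T' ⊓ Subgroup.normalizer (P : Set G) with hQ
    have hPQ : P < Q := exists_gt_normalizing hT'p hPT'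
    have hQp : IsPGroup 2 Q := hT'p.to_le inf_le_left
    have hcardlt : Nat.card P < Nat.card Q :=
      lt_of_le_of_ne (Nat.card_le_card_of_injective _ (Subgroup.inclusion_injective hPQ.le))
        fun e => hPQ.ne (Subgroup.eq_of_le_of_card_ge hPQ.le e.ge)
    have hQT : Nat.card Q ≤ Nat.card (T : Subgroup G) := hTmax Q hQp
    have hchar : ∀ C : Subgroup P, C.Characteristic → C ≠ ⊥ →
        Subgroup.normalizer ((C.map P.subtype : Subgroup G) : Set G) ≤ M := by
      intro C hC hne
      haveI := hC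
      have hle : C.map P.subtype ≤ P := Subgroup.map_subtype_le _
      refine ih (Nat.card (T : Subgroup G) - Nat.card Q) (by omega) _
        (fun e => hne ((Subgroup.map_eq_bot_iff_of_injective _ P.subtype_injective).1 e)) (hPp.to_le hle)
        (hle.trans (hPW'.trans inf_le_right)) Q
        (le_inf (inf_le_right.trans (normalizer_le_of_char C)) (inf_le_left.trans (Subgroup.map_subtype_le _)))
        hQp le_rfl
    haveI : Nontrivial P := (Subgroup.nontrivial_iff_ne_bot P).2 hPne
    have hNP : Subgroup.normalizer (P : Set G) ≤ M := by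
      have := hchar ⊤ inferInstance top_ne_bot
      rwa [← MonoidHom.range_eq_map, Subgroup.range_subtype] at this
    set N := Subgroup.normalizer (X : Set G) with hN
    obtain ⟨PN, hPN⟩ := (hPp.comap_subtype (K := N)).exists_le_sylow
    have hPeq : (PN : Subgroup N).map N.subtype = P := by
      by_contra hne
      have hge : P ≤ (PN : Subgroup N).map N.subtype := by
        rw [← Subgroup.map_subgroupOf_eq_of_le (hPW'.trans inf_le_left)]
        exact Subgroup.map_mono hPN
      have hgt := exists_gt_normalizing (PN.isPGroup'.map N.subtype) (lt_of_le_of_ne hge (Ne.symm hne))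
      exact hgt.ne (hPmax _ ((PN.isPGroup'.map _).to_le inf_le_left)
        (le_inf (inf_le_left.trans (Subgroup.map_subtype_le _)) (inf_le_right.trans hNP)) hgt.le).symm
    rcases h.local_le hX hX2 PN with h1 | h1 <;> rw [hPeq] at h1
    · exact h1.trans hNP
    · exact h1.trans (hchar (cS P) inferInstance (cS_ne_bot hPp))
  · -- a full Sylow subgroup
    let P₁ : Sylow 2 M := Sylow.ofCard (P.subgroupOf M) (by
      rw [Nat.card_congr (Subgroup.subgroupOfEquivOfLe (hPW'.trans inf_le_right)).toEquiv, heq]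
      let TM : Sylow 2 M := T.subtype hTM
      rw [← TM.card_eq_multiplicity]
      exact (Nat.card_congr (Subgroup.subgroupOfEquivOfLe hTM).toEquiv).symm)
    obtain ⟨⟨m, hm⟩, hmP⟩ := MulAction.exists_smul_eq M P₁ (T.subtype hTM)
    have hPT : conjS m P = (T : Subgroup G) := by
      refine Subgroup.eq_of_le_of_card_ge ?_ (by rw [card_conjS, heq])
      rintro _ ⟨p, hp, rfl⟩
      have : (⟨m, hm⟩ : M) * ⟨p, (hPW'.trans inf_le_right) hp⟩ * (⟨m, hm⟩ : M)⁻¹ ∈
          ((T.subtype hTM : Sylow 2 M) : Subgroup M) := by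
        rw [← hmP]
        exact ⟨⟨p, (hPW'.trans inf_le_right) hp⟩, hp, rfl⟩
      exact this
    set X' := conjS m X with hX'
    have hX'ne : X' ≠ ⊥ := fun e => hX (by
      rw [← Subgroup.card_eq_one, ← card_conjS m X, ← hX', e, Subgroup.card_bot])
    have hX'2 : IsPGroup 2 X' := hX2.map _
    set N' := Subgroup.normalizer (X' : Set G) with hN'
    have hTN : (T : Subgroup G) ≤ N' := by
      rw [← hPT]
      intro t ht
      exact mem_normalizer_conjS.2 ((hPW'.trans inf_le_left) (mem_conjS.1 ht))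
    have hle : N' ≤ M := by
      rcases h.local_le hX'ne hX'2 (T.subtype hTN) with h1 | h1
      all_goals
        have e : ((T.subtype hTN : Sylow 2 N') : Subgroup N').map N'.subtype = (T : Subgroup G) :=
          Subgroup.map_subgroupOf_eq_of_le hTN
        rw [e] at h1
      · exact h1.trans (normalizer_le_cOf _)
      · exact h1
    intro x hx
    have : m * x * m⁻¹ ∈ N' := mem_normalizer_conjS.2 (by
      rwa [show m⁻¹ * (m * x * m⁻¹) * m = x by group])
    have := mul_mem (mul_mem (inv_mem hm) (hle this)) hm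
    rwa [show m⁻¹ * (m * x * m⁻¹) * m = x by group] at this

/-- The subgroup is strongly embedded. -/
theorem Climb.stronglyEmbedded (T : Sylow 2 G) (hne : (T : Subgroup G) ≠ ⊥)
    (htop : Subgroup.normalizer ((cOf (T : Subgroup G) : Subgroup G) : Set G) ≠ ⊤) :
    Cfsg.IsStronglyEmbedded (Subgroup.normalizer ((cOf (T : Subgroup G) : Subgroup G) : Set G)) := by
  classical
  haveI : Fact (Nat.Prime 2) := ⟨Nat.prime_two⟩
  set M := Subgroup.normalizer ((cOf (T : Subgroup G) : Subgroup G) : Set G) with hM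
  have hTM : (T : Subgroup G) ≤ M := Subgroup.le_normalizer.trans (normalizer_le_cOf _)
  obtain ⟨k, hk⟩ := IsPGroup.iff_card.1 T.isPGroup'
  have hk0 : k ≠ 0 := fun e => hne (Subgroup.card_eq_one.1 (by rw [hk, e, pow_zero]))
  refine ⟨htop, even_iff_two_dvd.2 ((dvd_pow_self 2 hk0).trans (hk ▸ Subgroup.card_dvd_of_le hTM)), fun g hg => ?_⟩
  by_contra hodd
  rw [Nat.not_odd_iff_even, even_iff_two_dvd] at hodd
  set I := M ⊓ conjS g M
  obtain ⟨WI⟩ : Nonempty (Sylow 2 I) := inferInstance
  set W := (WI : Subgroup I).map I.subtype with hW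
  have hWp : IsPGroup 2 W := WI.isPGroup'.map _
  have hWI : W ≤ I := Subgroup.map_subtype_le _
  have hWne : W ≠ ⊥ := fun e => WI.ne_bot_of_dvd_card hodd
    ((Subgroup.map_eq_bot_iff_of_injective _ I.subtype_injective).1 e)
  have h1 : Subgroup.normalizer (W : Set G) ≤ M := h.normalizer_le T W hWne hWp (hWI.trans inf_le_left)
  set W' := conjS g⁻¹ W
  have hW'M : W' ≤ M := fun x hx => by
    have := mem_conjS.1 (hWI (mem_conjS.1 hx)).2
    rwa [show g⁻¹ * (g⁻¹⁻¹ * x * g⁻¹) * g = x by group] at this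
  have hW'ne : W' ≠ ⊥ := fun e => hWne (by
    rw [← Subgroup.card_eq_one, ← card_conjS g⁻¹ W]
    show Nat.card W' = 1
    rw [e, Subgroup.card_bot])
  have h2 : Subgroup.normalizer (W : Set G) ≤ conjS g M := fun x hx => by
    rw [mem_conjS]
    refine h.normalizer_le T W' hW'ne (hWp.map _) hW'M ?_
    exact mem_normalizer_conjS.2 (by rwa [show g⁻¹⁻¹ * (g⁻¹ * x * g) * g⁻¹ = x by group])
  -- `W` is a Sylow subgroup
  have hWT : Nat.card W = Nat.card (T : Subgroup G) := by
    obtain ⟨S, hS⟩ := hWp.exists_le_sylow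
    have hcS : Nat.card (S : Subgroup G) = Nat.card (T : Subgroup G) := by
      rw [S.card_eq_multiplicity, T.card_eq_multiplicity]
    rcases lt_or_eq_of_le hS with hlt | e
    swap
    · rw [e, hcS]
    exfalso
    have hgt := exists_gt_normalizing S.isPGroup' hlt
    have hQI : (S : Subgroup G) ⊓ Subgroup.normalizer (W : Set G) ≤ I :=
      inf_le_right.trans (le_inf h1 h2)
    have hQ2 : IsPGroup 2 ↥((S : Subgroup G) ⊓ Subgroup.normalizer (W : Set G)) :=
      S.isPGroup'.to_le inf_le_left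
    have h3 := WI.is_maximal' (hQ2.comap_subtype (K := I)) (fun w hw => hgt.le ⟨w, hw, rfl⟩)
    have h4 : ((S : Subgroup G) ⊓ Subgroup.normalizer (W : Set G)) = W := by
      rw [hW, ← Subgroup.map_subgroupOf_eq_of_le hQI]
      exact congrArg (Subgroup.map I.subtype) h3
    exact hgt.ne h4.symm
  have hmax : Nat.card (T : Subgroup G) = 2 ^ (Nat.card M).factorization 2 := by
    let TM : Sylow 2 M := T.subtype hTM
    rw [← TM.card_eq_multiplicity]
    exact (Nat.card_congr (Subgroup.subgroupOfEquivOfLe hTM).toEquiv).symm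
  have hWM : W ≤ M := hWI.trans inf_le_left
  let A : Sylow 2 M := Sylow.ofCard (W.subgroupOf M) (by
    rw [Nat.card_congr (Subgroup.subgroupOfEquivOfLe hWM).toEquiv, hWT, hmax])
  let B : Sylow 2 M := Sylow.ofCard (W'.subgroupOf M) (by
    rw [Nat.card_congr (Subgroup.subgroupOfEquivOfLe hW'M).toEquiv, card_conjS, hWT, hmax])
  obtain ⟨⟨m, hm⟩, hmB⟩ := MulAction.exists_smul_eq M B A
  have hconj : conjS (m * g⁻¹) W = W := by
    refine Subgroup.eq_of_le_of_card_ge ?_ (card_conjS _ W).ge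
    rintro _ ⟨w, hw, rfl⟩
    have hwM : g⁻¹ * w * g⁻¹⁻¹ ∈ W' := ⟨w, hw, rfl⟩
    have : (⟨m, hm⟩ : M) * ⟨_, hW'M hwM⟩ * (⟨m, hm⟩ : M)⁻¹ ∈ (A : Subgroup M) := by
      rw [← hmB]
      exact ⟨⟨_, hW'M hwM⟩, hwM, rfl⟩
    show m * g⁻¹ * w * (m * g⁻¹)⁻¹ ∈ W
    have h5 : m * (g⁻¹ * w * g⁻¹⁻¹) * m⁻¹ ∈ W := this
    rwa [show m * g⁻¹ * w * (m * g⁻¹)⁻¹ = m * (g⁻¹ * w * g⁻¹⁻¹) * m⁻¹ by group]
  have hn : m * g⁻¹ ∈ Subgroup.normalizer (W : Set G) := Subgroup.mem_normalizer_iff.2 fun y => by
    conv_rhs => rw [← hconj]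
    rw [mem_conjS, show (m * g⁻¹)⁻¹ * (m * g⁻¹ * y * (m * g⁻¹)⁻¹) * (m * g⁻¹) = y by group]
  refine hg ?_
  have := mul_mem (inv_mem hm) (h1 hn)
  rw [inv_mul_cancel_left] at this
  simpa using inv_mem this

end Cfsg.Agent.Solv.EPPOSeven
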