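import Cfsg.Agent.Lib.Solv.EPPOSeven.Basic

/-!
The shape of a solvable group with nontrivial 2-core and nonnormal Sylow 2-subgroups,
all of whose nonidentity elements have order a power of two or an odd prime.
-/

set_option autoImplicit false
set_option linter.style.haveILetI false

namespace Cfsg.Agent.Solv.EPPOSeven

open Cfsg

universe u

variable {L : Type u} [Group L]

/-- The standing hypotheses. -/
structure Local (L : Type u) [Group L] [Finite L] : Prop where
  ord : Ord L
  solv : Group.IsSolvable L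
  core : Cfsg.pCore 2 L ≠ ⊥
  notNormal : ∀ P : Sylow 2 L, ¬ (P : Subgroup L).Normal

/-- The involutions of the centre of a subgroup, with the identity. -/
def omegaCen (D : Subgroup L) : Subgroup L where
  carrier := {g | g ∈ D ∧ g ∈ Subgroup.centralizer (D : Set L) ∧ g * g = 1}
  one_mem' := ⟨one_mem _, one_mem _, one_mul 1⟩
  mul_mem' := fun {a b} ha hb => ⟨mul_mem ha.1 hb.1, mul_mem ha.2.1 hb.2.1, by
    have hab : b * a = a * b := Subgroup.mem_centralizer_iff.1 ha.2.1 b hb.1
    rw [show a * b * (a * b) = a * (b * a) * b by group, hab,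
      show a * (a * b) * b = a * a * (b * b) by group, ha.2.2, hb.2.2, one_mul]⟩
  inv_mem' := fun {a} ha => by
    rw [inv_eq_of_mul_eq_one_right ha.2.2]
    exact ha

theorem omegaCen_comm (D : Subgroup L) : IsMulCommutative (omegaCen D) :=
  ⟨⟨fun a b => Subtype.ext (Subgroup.mem_centralizer_iff.1 b.2.2.1 (a : L) a.2.1)⟩⟩

theorem omegaCen_le (D : Subgroup L) : omegaCen D ≤ D := fun _ h => h.1

theorem omegaCen_normal (D : Subgroup L) [D.Normal] : (omegaCen D).Normal where
  conj_mem n hn g := by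
    refine ⟨Subgroup.Normal.conj_mem inferInstance _ hn.1 g, ?_, ?_⟩
    · rw [Subgroup.mem_centralizer_iff]
      intro d hd
      have h1 := Subgroup.mem_centralizer_iff.1 hn.2.1 (g⁻¹ * d * g) (by
        simpa using Subgroup.Normal.conj_mem inferInstance d hd g⁻¹)
      calc d * (g * n * g⁻¹) = g * (g⁻¹ * d * g * n) * g⁻¹ := by group
        _ = g * (n * (g⁻¹ * d * g)) * g⁻¹ := by rw [h1]
        _ = g * n * g⁻¹ * d := by group
    · rw [show g * n * g⁻¹ * (g * n * g⁻¹) = g * (n * n) * g⁻¹ by group, hn.2.2, mul_one, mul_inv_cancel]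

theorem omegaCen_ne_bot [Finite L] {D : Subgroup L} (hD : IsPGroup 2 D) (hne : D ≠ ⊥) : omegaCen D ≠ ⊥ := by
  haveI : Fact (Nat.Prime 2) := ⟨Nat.prime_two⟩
  haveI : Nontrivial D := (Subgroup.nontrivial_iff_ne_bot D).2 hne
  haveI := hD.center_nontrivial
  obtain ⟨n, hn0, hn⟩ := (hD.to_subgroup (Subgroup.center D)).nontrivial_iff_card.1 inferInstance
  obtain ⟨z, hz⟩ := exists_prime_orderOf_dvd_card' (G := Subgroup.center D) 2 (hn ▸ dvd_pow_self 2 hn0.ne')
  have hz' : orderOf ((z : D) : L) = 2 := by rw [Subgroup.orderOf_coe, Subgroup.orderOf_coe, hz]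
  intro e
  have hmem : ((z : D) : L) ∈ omegaCen D := ⟨(z : D).2, Subgroup.mem_centralizer_iff.2 fun d hd =>
    congrArg Subtype.val (Subgroup.mem_center_iff.1 z.2 ⟨d, hd⟩), by
      have := pow_orderOf_eq_one ((z : D) : L)
      rwa [hz', pow_two] at this⟩
  rw [e, Subgroup.mem_bot] at hmem
  rw [hmem, orderOf_one] at hz'
  omega

section

variable [Finite L] (h : Local L)
include h

theorem Local.core_two : IsPGroup 2 (Cfsg.pCore 2 L) :=
  haveI : Fact (Nat.Prime 2) := ⟨Nat.prime_two⟩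
  pCore_isPGroup 2

theorem Local.cent_le : Subgroup.centralizer (Cfsg.pCore 2 L : Set L) ≤ Cfsg.pCore 2 L := by
  haveI : Fact (Nat.Prime 2) := ⟨Nat.prime_two⟩
  haveI := pCore_normal (G := L) 2
  exact normal_le_pCore (isPGroup_centralizer_subgroup h.ord.ipp h.core_two h.core)

/-- A group of odd exponent inside `L` has prime order at most. -/
theorem Local.odd_card_le {r : ℕ} [Fact r.Prime] (hr : r ≠ 2) {E : Subgroup L} (hE : IsPGroup r E) :
    Nat.card E ≤ r := by
  haveI : Fact (Nat.Prime 2) := ⟨Nat.prime_two⟩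
  haveI := pCore_normal (G := L) 2
  haveI := omegaCen_normal (Cfsg.pCore 2 L)
  haveI := omegaCen_comm (Cfsg.pCore 2 L)
  refine EPPO.elementary_fpf_card_le (V := omegaCen (Cfsg.pCore 2 L))
    (omegaCen_ne_bot h.core_two h.core) (h.ord.exponent_odd hr hE)
    (by rw [Subgroup.normalizer_eq_top]; exact le_top) fun x hx hx1 => ?_
  rw [eq_bot_iff]
  rintro v ⟨⟨-, -, hvv⟩, hvx⟩
  rw [Subgroup.mem_bot]
  by_contra hv1
  exact hr (EPPO.prime_eq_of_commute h.ord.ipp Nat.prime_two Fact.out
    (orderOf_eq_prime (by rw [pow_two]; exact hvv) hv1) (orderOf_eq_prime (h.ord.exponent_odd hr hE x hx) hx1)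
    (Subgroup.mem_centralizer_singleton_iff.1 hvx)).symm

/-- A normal `r`-subgroup of the top has order at most `r`. -/
theorem Local.normal_card_le {r : ℕ} [Fact r.Prime] (hr : r ≠ 2) [(Cfsg.pCore 2 L).Normal]
    (K : Subgroup (L ⧸ Cfsg.pCore 2 L)) (hK : IsPGroup r K) : Nat.card K ≤ r := by
  haveI : Fact (Nat.Prime 2) := ⟨Nat.prime_two⟩
  set D := Cfsg.pCore 2 L
  obtain ⟨R⟩ : Nonempty (Sylow r (K.comap (QuotientGroup.mk' D))) := inferInstance
  obtain ⟨i, hi⟩ := IsPGroup.iff_card.1 hK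
  obtain ⟨j, hj⟩ := IsPGroup.iff_card.1 h.core_two
  have hc : Nat.card (R : Subgroup (K.comap (QuotientGroup.mk' D))) = r ^ i := by
    rw [R.card_eq_multiplicity, card_comap_mk', hi, hj,
      Nat.factorization_mul (pow_ne_zero _ (Fact.out : r.Prime).ne_zero) (pow_ne_zero _ two_ne_zero),
      Finsupp.add_apply, Nat.factorization_pow, Nat.factorization_pow]
    simp [(Fact.out : r.Prime).factorization_self, Nat.factorization_eq_zero_of_not_dvd
      (fun hd => hr ((Nat.prime_dvd_prime_iff_eq (Fact.out : r.Prime) Nat.prime_two).1 hd))]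
  have := h.odd_card_le hr (R.isPGroup'.map (K.comap (QuotientGroup.mk' D)).subtype)
  rwa [card_map_subtype, hc, ← hi] at this

/-- The shape of the top. -/
theorem Local.exists_data [(Cfsg.pCore 2 L).Normal] :
    ∃ (r : ℕ) (x : L), r.Prime ∧ r ≠ 2 ∧ orderOf x = r ∧
      orderOf (QuotientGroup.mk' (Cfsg.pCore 2 L) x) = r ∧
      (Subgroup.zpowers (QuotientGroup.mk' (Cfsg.pCore 2 L) x)).Normal ∧
      Subgroup.centralizer ({QuotientGroup.mk' (Cfsg.pCore 2 L) x} : Set (L ⧸ Cfsg.pCore 2 L)) =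
        Subgroup.zpowers (QuotientGroup.mk' (Cfsg.pCore 2 L) x) := by
  haveI : Fact (Nat.Prime 2) := ⟨Nat.prime_two⟩
  set D := Cfsg.pCore 2 L with hD
  set π := QuotientGroup.mk' D with hπ
  haveI : Nontrivial (L ⧸ D) := by
    rw [QuotientGroup.nontrivial_iff]
    intro e
    obtain ⟨P⟩ : Nonempty (Sylow 2 L) := inferInstance
    refine h.notNormal P ?_
    have htop : IsPGroup 2 (⊤ : Subgroup L) := e ▸ h.core_two
    have : (P : Subgroup L) = ⊤ := (P.is_maximal' htop le_top).symm
    rw [this]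
    infer_instance
  obtain ⟨M, hMn, hM1, -, hMmin⟩ := exists_minimal_normal_le (⊤ : Subgroup (L ⧸ D)) top_ne_bot
  haveI := hMn
  haveI := h.solv
  haveI : Group.IsSolvable (L ⧸ D) := Group.isSolvable_of_surjective (f := π) (QuotientGroup.mk'_surjective D)
  obtain ⟨hMc, r, hr, hMel, hMp⟩ := minimal_normal_elementaryAbelian M inferInstance hM1 hMmin
  haveI := Fact.mk hr
  obtain ⟨i, hi⟩ := IsPGroup.iff_card.1 hMp
  obtain ⟨j, hj⟩ := IsPGroup.iff_card.1 h.core_two
  have hr2 : r ≠ 2 := by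
    rintro rfl
    haveI : (M.comap π).Normal := inferInstance
    have hle : M.comap π ≤ D := normal_le_pCore (IsPGroup.of_card (n := i + j) (by
      rw [hπ, card_comap_mk', hi, hj, pow_add]))
    refine hM1 ?_
    rw [← Subgroup.map_comap_eq_self_of_surjective (QuotientGroup.mk'_surjective D) M, Subgroup.map_eq_bot_iff,
      QuotientGroup.ker_mk']
    exact hle
  have hMr : Nat.card M = r := by
    refine le_antisymm (h.normal_card_le hr2 M hMp) ?_
    have hi0 : i ≠ 0 := by
      rintro rfl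
      exact hM1 (Subgroup.card_eq_one.1 (by rw [hi, pow_zero]))
    rw [hi]
    exact Nat.le_self_pow hi0 r
  have hdvd : r ∣ Nat.card (M.comap π) := by rw [hπ, card_comap_mk', hMr]; exact dvd_mul_right _ _
  obtain ⟨x₀, hx₀⟩ := exists_prime_orderOf_dvd_card' r hdvd
  set x : L := (x₀ : L) with hxdef
  have hx : orderOf x = r := by rw [hxdef, Subgroup.orderOf_coe, hx₀]
  have hπx : orderOf (π x) = r := by
    rcases hr.eq_one_or_self_of_dvd _ (hx ▸ orderOf_map_dvd π x) with e | e
    · exfalso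
      rw [orderOf_eq_one_iff] at e
      have hxD : x ∈ D := (QuotientGroup.eq_one_iff x).1 e
      have hd := hx ▸ Subgroup.orderOf_dvd_natCard D hxD
      rw [hj] at hd
      exact hr2 ((Nat.prime_dvd_prime_iff_eq hr Nat.prime_two).1 (hr.dvd_of_dvd_pow hd))
    · exact e
  have hzM : Subgroup.zpowers (π x) = M := Subgroup.eq_of_le_of_card_ge
    (Subgroup.zpowers_le.2 x₀.2) (by rw [Nat.card_zpowers, hπx, hMr])
  refine ⟨r, x, hr, hr2, hx, hπx, hzM ▸ hMn, le_antisymm ?_ ?_⟩
  · have hset : Subgroup.centralizer ({π x} : Set (L ⧸ D)) = Subgroup.centralizer (M : Set (L ⧸ D)) := by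
      rw [← hzM, Subgroup.zpowers_eq_closure, Subgroup.centralizer_closure]
    have hCp : IsPGroup r (Subgroup.centralizer ({π x} : Set (L ⧸ D))) :=
      isPGroup_centralizer (h.ord.quotient D).ipp hπx
    refine (Subgroup.eq_of_le_of_card_ge (Subgroup.zpowers_le.2 (Subgroup.mem_centralizer_singleton_iff.2 rfl))
      ?_).ge
    rw [Nat.card_zpowers, hπx]
    exact h.normal_card_le hr2 _ hCp
  · exact Subgroup.zpowers_le.2 (Subgroup.mem_centralizer_singleton_iff.2 rfl)

end

end Cfsg.Agent.Solv.EPPOSeven
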