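import Cfsg.Agent.Lib.Solv.EPPOSeven.Climb
import Cfsg.Agent.Lib.Fusion.StronglyEmbeddedPairs
import Cfsg.Agent.Lib.Solv.Frobenius
import Cfsg.Agent.Lib.Lie.ZassenhausSuzuki.Main
import Cfsg.Agent.Lib.Char.BSW.Recognise

/-!
The strongly embedded case: the group is a Zassenhaus group.
-/

set_option autoImplicit false
set_option linter.style.haveILetI false

namespace Cfsg.Agent.Solv.EPPOSeven

open Cfsg
open Cfsg.Agent.Fusion.SEPairs

universe u

variable {G : Type u} [Group G] [Finite G]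

/-- A cyclic group has at most one involution. -/
theorem eq_of_two_cyclic {H : Type*} [Group H] [Finite H] [IsCyclic H] {a b : H} (ha : orderOf a = 2)
    (hb : orderOf b = 2) : a = b := by
  classical
  haveI := Fintype.ofFinite H
  by_contra hne
  have h := IsCyclic.card_pow_eq_one_le (α := H) (n := 2) two_pos
  have h3 : ({1, a, b} : Finset H).card = 3 := Finset.card_eq_three.2 ⟨_, _, _,
    fun e => by rw [← e, orderOf_one] at ha; omega, fun e => by rw [← e, orderOf_one] at hb; omega, hne, rfl⟩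
  have hsub : ({1, a, b} : Finset H) ⊆ Finset.univ.filter (fun c => c ^ 2 = 1) := by
    intro c hc
    simp only [Finset.mem_insert, Finset.mem_singleton] at hc
    refine Finset.mem_filter.2 ⟨Finset.mem_univ _, ?_⟩
    rcases hc with rfl | rfl | rfl
    · exact one_pow 2
    · rw [← ha, pow_orderOf_eq_one]
    · rw [← hb, pow_orderOf_eq_one]
  have := Finset.card_le_card hsub
  omega

/-- The facts about `M` used in the count. -/
structure Base (M : Subgroup G) (T : Subgroup G) (r : ℕ) : Prop where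
  se : Cfsg.IsStronglyEmbedded M
  T2 : IsPGroup 2 T
  TM : T ≤ M
  Tn : M ≤ Subgroup.normalizer (T : Set G)
  card : Nat.card M = Nat.card T * r
  r_odd : r = 1 ∨ (r.Prime ∧ r ≠ 2)

/-- `M` has the shape of a Borel subgroup. -/
theorem exists_base (h : Climb G) (T : Sylow 2 G) (hne : (T : Subgroup G) ≠ ⊥)
    (htop : Subgroup.normalizer ((cOf (T : Subgroup G) : Subgroup G) : Set G) ≠ ⊤) :
    ∃ r : ℕ, Base (Subgroup.normalizer ((cOf (T : Subgroup G) : Subgroup G) : Set G)) (T : Subgroup G) r := by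
  classical
  haveI : Fact (Nat.Prime 2) := ⟨Nat.prime_two⟩
  set M := Subgroup.normalizer ((cOf (T : Subgroup G) : Subgroup G) : Set G) with hM
  have hse := h.stronglyEmbedded T hne htop
  have hTM : (T : Subgroup G) ≤ M := Subgroup.le_normalizer.trans (normalizer_le_cOf _)
  haveI : Nontrivial (T : Subgroup G) := (Subgroup.nontrivial_iff_ne_bot _).2 hne
  set C := cOf (T : Subgroup G) with hCdef
  have hCne : C ≠ ⊥ := fun e =>
    cS_ne_bot T.isPGroup' ((Subgroup.map_eq_bot_iff_of_injective _ (Subgroup.subtype_injective _)).1 e)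
  have hCp : IsPGroup 2 C := T.isPGroup'.to_le (Subgroup.map_subtype_le _)
  have hsolv : Group.IsSolvable M := h.locals C hCne hCp
  have hfus : ∀ a b : G, orderOf a = 2 → orderOf b = 2 → a ∈ M → b ∈ M → ∃ g ∈ M, g * a * g⁻¹ = b := by
    intro a b ha hb haM hbM
    obtain ⟨g, hg⟩ := isConj_iff.1 (involutions_conj hse ha hb)
    have hax : a • ((1 : G) : G ⧸ M) = (1 : G) := smul_mk_eq_iff.2 (by simpa using haM)
    have hbx : b • ((1 : G) : G ⧸ M) = (1 : G) := smul_mk_eq_iff.2 (by simpa using hbM)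
    have hbg : b • ((g : G) : G ⧸ M) = g := smul_mk_eq_iff.2 (by
      rw [← hg, show g⁻¹ * (g * a * g⁻¹) * g = a by group]; exact haM)
    refine ⟨g, ?_, hg⟩
    have e := fixed_unique hse hb hbx hbg
    rw [QuotientGroup.eq] at e
    simpa using e
  set TM : Sylow 2 M := T.subtype hTM with hTMdef
  have hTn : (TM : Subgroup M).Normal := by
    by_contra hn
    haveI : (C.subgroupOf M).Normal := ⟨fun n hn g => (Subgroup.mem_normalizer_iff.1 g.2 n).1 hn⟩
    have hle : C.subgroupOf M ≤ Cfsg.pCore 2 M := normal_le_pCore (hCp.comap_subtype (K := M))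
    have hcore : Cfsg.pCore 2 M ≠ ⊥ := fun e => hCne (by
      rw [← Subgroup.map_subgroupOf_eq_of_le (show C ≤ M from Subgroup.le_normalizer)]
      rw [e, le_bot_iff] at hle
      rw [hle, Subgroup.map_bot])
    have hloc : Local M := ⟨h.ord.subgroup M, hsolv, hcore, fun Q hQ => hn (by
      obtain ⟨g, hg⟩ := MulAction.exists_smul_eq M Q TM
      haveI := hQ
      have hQQ : g • Q = Q := Sylow.smul_eq_iff_mem_normalizer.2 (by
        change g ∈ Subgroup.normalizer ((Q : Subgroup M) : Set M)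
        rw [Subgroup.normalizer_eq_top]; trivial)
      rw [← hg, hQQ]
      exact hQ)⟩
    haveI := pCore_normal (G := M) 2
    obtain ⟨i, hi, hiD⟩ := hloc.exists_invol
    obtain ⟨n, hn0, hnc⟩ := hloc.core_two.nontrivial_iff_card.1 ((Subgroup.nontrivial_iff_ne_bot _).2 hcore)
    obtain ⟨d, hd⟩ := exists_prime_orderOf_dvd_card' (G := Cfsg.pCore 2 M) 2 (hnc ▸ dvd_pow_self 2 hn0.ne')
    obtain ⟨g, hgM, hg⟩ := hfus ((d : M) : G) (i : G) (by rw [Subgroup.orderOf_coe, Subgroup.orderOf_coe, hd])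
      (by rw [Subgroup.orderOf_coe, hi]) (d : M).2 i.2
    refine hiD ?_
    have : i = (⟨g, hgM⟩ : M) * (d : M) * (⟨g, hgM⟩ : M)⁻¹ := Subtype.ext hg.symm
    rw [this]
    exact Subgroup.Normal.conj_mem inferInstance _ d.2 _
  have hMT : M ≤ Subgroup.normalizer ((T : Subgroup G) : Set G) := by
    have := Subgroup.le_normalizer_map (H := (TM : Subgroup M)) M.subtype
    rw [Subgroup.normalizer_eq_top, ← MonoidHom.range_eq_map, Subgroup.range_subtype] at this
    rwa [show ((TM : Subgroup M).map M.subtype) = (T : Subgroup G) from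
      Subgroup.map_subgroupOf_eq_of_le hTM] at this
  obtain ⟨o, ho⟩ := Subgroup.card_dvd_of_le hTM
  have hodd : ¬ 2 ∣ o := fun hd => by
    have h1 := TM.not_dvd_index
    have h2 := (TM : Subgroup M).card_mul_index
    rw [show Nat.card (TM : Subgroup M) = Nat.card (T : Subgroup G) from
      Nat.card_congr (Subgroup.subgroupOfEquivOfLe hTM).toEquiv, ho] at h2
    rw [Nat.eq_of_mul_eq_mul_left Nat.card_pos h2] at h1
    exact h1 hd
  refine ⟨o, ⟨hse, T.isPGroup', hTM, hMT, ho, ?_⟩⟩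
  by_cases ho1 : o = 1
  · exact Or.inl ho1
  right
  obtain ⟨r, hr, hro⟩ := Nat.exists_prime_and_dvd ho1
  have hr2 : r ≠ 2 := fun e => hodd (e ▸ hro)
  haveI := Fact.mk hr
  obtain ⟨k, hk⟩ := IsPGroup.iff_card.1 T.isPGroup'
  have hk0 : k ≠ 0 := fun e => hne (Subgroup.card_eq_one.1 (by rw [hk, e, pow_zero]))
  have hM0 : Nat.card M ≠ 0 := Nat.card_pos.ne'
  have ho0 : o ≠ 0 := fun e => by rw [ho, e, mul_zero] at hM0; exact hM0 rfl
  have hpow : ∀ s, s.Prime → s ∣ o → s = r := by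
    intro s hs hso
    by_contra hne'
    have hsub : ({2, r, s} : Finset ℕ) ⊆ (Nat.card M).primeFactors := by
      intro a ha
      simp only [Finset.mem_insert, Finset.mem_singleton] at ha
      refine Nat.mem_primeFactors.2 ?_
      rcases ha with rfl | rfl | rfl
      · exact ⟨Nat.prime_two, ho ▸ (hk ▸ dvd_pow_self 2 hk0 : 2 ∣ Nat.card (T : Subgroup G)).mul_right o, hM0⟩
      · exact ⟨hr, ho ▸ dvd_mul_of_dvd_right hro _, hM0⟩
      · exact ⟨hs, ho ▸ dvd_mul_of_dvd_right hso _, hM0⟩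
    have h3 : ({2, r, s} : Finset ℕ).card = 3 :=
      Finset.card_eq_three.2 ⟨2, r, s, Ne.symm hr2, fun e => hodd (e ▸ hso), Ne.symm hne', rfl⟩
    have := (Finset.card_le_card hsub).trans (EPPO.solvable_primes_le_two h.ord.ipp M hsolv)
    omega
  have hor : o = r ^ o.primeFactorsList.length := Nat.eq_prime_pow_of_unique_prime_dvd ho0 fun {d} hd hdo => hpow d hd hdo
  obtain ⟨R⟩ : Nonempty (Sylow r M) := inferInstance
  have hRc : Nat.card (R : Subgroup M) = o := by
    rw [R.card_eq_multiplicity, ho, hk, hor, Nat.factorization_mul (pow_ne_zero _ two_ne_zero)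
      (pow_ne_zero _ hr.ne_zero), Finsupp.add_apply, Nat.factorization_pow, Nat.factorization_pow]
    simp [hr.factorization_self, Nat.factorization_eq_zero_of_not_dvd
      (fun hd => hr2 ((Nat.prime_dvd_prime_iff_eq hr Nat.prime_two).1 hd))]
  set Rg := (R : Subgroup M).map M.subtype
  haveI := omegaCen_comm (T : Subgroup G)
  have hle := EPPO.elementary_fpf_card_le (E := Rg) (V := omegaCen (T : Subgroup G))
    (omegaCen_ne_bot T.isPGroup' hne) (h.ord.exponent_odd hr2 (R.isPGroup'.map _))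
    ((Subgroup.map_subtype_le _).trans (hMT.trans fun g hg => Subgroup.mem_normalizer_iff.2 fun y => by
      have key : ∀ g ∈ Subgroup.normalizer ((T : Subgroup G) : Set G), ∀ y ∈ omegaCen (T : Subgroup G),
          g * y * g⁻¹ ∈ omegaCen (T : Subgroup G) := by
        intro g hg y hy
        refine ⟨(Subgroup.mem_normalizer_iff.1 hg y).1 hy.1, Subgroup.mem_centralizer_iff.2 fun d hd => ?_, ?_⟩
        · have hd' : g⁻¹ * d * g ∈ (T : Subgroup G) :=
            (Subgroup.mem_normalizer_iff.1 hg _).2 (by rwa [show g * (g⁻¹ * d * g) * g⁻¹ = d by group])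
          have h1 := Subgroup.mem_centralizer_iff.1 hy.2.1 _ hd'
          calc d * (g * y * g⁻¹) = g * (g⁻¹ * d * g * y) * g⁻¹ := by group
            _ = g * (y * (g⁻¹ * d * g)) * g⁻¹ := by rw [h1]
            _ = g * y * g⁻¹ * d := by group
        · rw [show g * y * g⁻¹ * (g * y * g⁻¹) = g * (y * y) * g⁻¹ by group, hy.2.2, mul_one, mul_inv_cancel]
      refine ⟨key g hg y, fun h' => ?_⟩
      have := key g⁻¹ (inv_mem hg) _ h'
      rwa [show g⁻¹ * (g * y * g⁻¹) * g⁻¹⁻¹ = y by group] at this))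
    (fun x hx hx1 => by
      rw [eq_bot_iff]
      rintro v ⟨⟨-, -, hvv⟩, hvx⟩
      rw [Subgroup.mem_bot]
      by_contra hv1
      exact hr2 (EPPO.prime_eq_of_commute h.ord.ipp Nat.prime_two hr
        (orderOf_eq_prime (by rw [pow_two]; exact hvv) hv1)
        (orderOf_eq_prime (h.ord.exponent_odd hr2 (R.isPGroup'.map _) x hx) hx1)
        (Subgroup.mem_centralizer_singleton_iff.1 hvx)).symm)
  rw [card_map_subtype, hRc] at hle
  have : o = r := le_antisymm hle (Nat.le_of_dvd (Nat.pos_of_ne_zero ho0) hro)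
  exact this ▸ ⟨hr, hr2⟩

section

variable (hO : Ord G) {M T : Subgroup G} {r : ℕ} (hB : Base M T r)

local notation "Ω" => G ⧸ M

include hO hB

/-- Two-point stabilizers have order `r`, and `M` has exactly `r` involutions. -/
theorem Base.two_point (y : G ⧸ M) (hy : y ≠ ((1 : G) : G ⧸ M)) :
    Nat.card ↥(M ⊓ MulAction.stabilizer G y) = r ∧
      Nat.card {t : G // orderOf t = 2 ∧ t • ((1 : G) : G ⧸ M) = (1 : G)} = r := by
  classical
  haveI : Fact (Nat.Prime 2) := ⟨Nat.prime_two⟩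
  set K := M ⊓ MulAction.stabilizer G y with hK
  have hfix : ∀ t : G, t • ((1 : G) : G ⧸ M) = (1 : G) ↔ t ∈ M := fun t => by
    rw [smul_mk_eq_iff]; simp
  have hKodd : ¬ 2 ∣ Nat.card K := by
    obtain ⟨g, rfl⟩ := QuotientGroup.mk_surjective y
    have hgM : g ∉ M := fun hg => hy (by
      rw [QuotientGroup.eq]; simpa using hg)
    intro hd
    have hle : K ≤ M ⊓ M.map (MulAut.conj g).toMonoidHom := by
      rintro t ⟨htM, hty⟩
      refine ⟨htM, ⟨g⁻¹ * t * g, smul_mk_eq_iff.1 hty, ?_⟩⟩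
      show g * (g⁻¹ * t * g) * g⁻¹ = t
      group
    exact Nat.not_even_iff_odd.2 (hB.se.2.2 g hgM) (even_iff_two_dvd.2 (hd.trans (Subgroup.card_dvd_of_le hle)))
  have hKr : Nat.card K ∣ r := by
    have h1 : Nat.card K ∣ Nat.card T * r := hB.card ▸ Subgroup.card_dvd_of_le inf_le_left
    obtain ⟨k, hk⟩ := IsPGroup.iff_card.1 hB.T2
    rw [hk] at h1
    exact (Nat.Coprime.pow_right k ((Nat.prime_two.coprime_iff_not_dvd.2 hKodd).symm)).dvd_of_dvd_mul_left h1
  obtain ⟨⟨a, haM⟩, ha⟩ := exists_prime_orderOf_dvd_card' 2 (even_iff_two_dvd.1 hB.se.2.1)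
  rw [Subgroup.orderOf_mk] at ha
  set I := {t : G // orderOf t = 2 ∧ t • ((1 : G) : G ⧸ M) = (1 : G)}
  let φ : K → I := fun d => ⟨(d : G) * a * (d : G)⁻¹, conj_involution ha d,
    (hfix _).2 (mul_mem (mul_mem d.2.1 haM) (inv_mem d.2.1))⟩
  have hφs : Function.Surjective φ := by
    rintro ⟨b, hb, hbx⟩
    obtain ⟨d, hdx, hdy, hd⟩ := pair_transitive hB.se hy ha ((hfix a).2 haM) hb hbx
    exact ⟨⟨d, (hfix d).1 hdx, hdy⟩, Subtype.ext hd⟩
  have hφi : Function.Injective φ := by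
    intro d e hde
    have hde' : (d : G) * a * (d : G)⁻¹ = e * a * (e : G)⁻¹ := congrArg Subtype.val hde
    set c := (e : G)⁻¹ * d with hc
    have hcK : c ∈ K := mul_mem (inv_mem e.2) d.2
    have hca : c ∈ Subgroup.centralizer ({a} : Set G) := by
      rw [Subgroup.mem_centralizer_singleton_iff, ← mul_inv_eq_iff_eq_mul, hc]
      calc (e : G)⁻¹ * d * a * ((e : G)⁻¹ * d)⁻¹ = (e : G)⁻¹ * ((d : G) * a * (d : G)⁻¹) * e := by group
        _ = a := by rw [hde']; group
    obtain ⟨k, hk⟩ := (IsPGroup.iff_orderOf.1 (isPGroup_centralizer hO.ipp ha)) ⟨c, hca⟩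
    rw [Subgroup.orderOf_mk] at hk
    have hc1 : c = 1 := by
      rcases k with _ | k
      · exact orderOf_eq_one_iff.1 (hk.trans (pow_zero 2))
      · exact absurd ((dvd_pow_self 2 k.succ_ne_zero).trans (hk ▸ Subgroup.orderOf_dvd_natCard K hcK)) hKodd
    exact Subtype.ext (inv_mul_eq_one.1 hc1).symm
  have hcard : Nat.card I = Nat.card K := (Nat.card_eq_of_bijective φ ⟨hφi, hφs⟩).symm
  suffices Nat.card K = r from ⟨this, hcard.trans this⟩
  rcases hB.r_odd with h1 | ⟨hr, hr2⟩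
  · exact Nat.eq_one_of_dvd_one (h1 ▸ hKr) |>.trans h1.symm
  rcases (Nat.dvd_prime hr).1 hKr with e | e
  swap
  · exact e
  exfalso
  haveI := Fact.mk hr
  -- the only involution of `M` would centralize an element of order `r`
  obtain ⟨⟨x, hxM⟩, hx⟩ := exists_prime_orderOf_dvd_card' (G := M) r (hB.card ▸ dvd_mul_left r _)
  rw [Subgroup.orderOf_mk] at hx
  haveI : Subsingleton I := Finite.card_le_one_iff_subsingleton.1 (hcard.trans e).le
  have h2 : x * a * x⁻¹ = a := congrArg Subtype.val (Subsingleton.elim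
    (⟨x * a * x⁻¹, conj_involution ha x, (hfix _).2 (mul_mem (mul_mem hxM haM) (inv_mem hxM))⟩ : I)
    ⟨a, ha, (hfix a).2 haM⟩)
  exact hr2 (EPPO.prime_eq_of_commute hO.ipp Nat.prime_two hr ha hx
    (show Commute a x from (mul_inv_eq_iff_eq_mul.1 h2).symm)).symm

/-- The group is Zassenhaus on the cosets. -/
theorem Base.zassenhaus [IsSimpleGroup G] (hna : ∃ a b : G, a * b ≠ b * a) :
    Cfsg.IsZassenhausGroup G (G ⧸ M) := by
  classical
  haveI : Fact (Nat.Prime 2) := ⟨Nat.prime_two⟩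
  set x₀ : G ⧸ M := ((1 : G) : G ⧸ M)
  have hfix : ∀ t : G, t • x₀ = x₀ ↔ t ∈ M := fun t => by rw [smul_mk_eq_iff]; simp
  have hTne : M ≠ ⊥ := fun e => by
    have := hB.se.2.1
    rw [e, Subgroup.card_bot] at this
    exact absurd this (by decide)
  rcases hB.r_odd with h1 | ⟨hr, hr2⟩
  · -- a Frobenius group
    exfalso
    have hF : Cfsg.IsFrobeniusComplement M := by
      refine ⟨hTne, hB.se.1, fun g hg => ?_⟩
      have hy : ((g : G) : G ⧸ M) ≠ x₀ := fun e => hg (by
        rw [QuotientGroup.eq] at e; simpa using e)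
      have h2 := (hB.two_point hO _ hy).1
      rw [h1, Subgroup.card_eq_one] at h2
      rw [eq_bot_iff, ← h2]
      rintro t ⟨htM, htg⟩
      refine ⟨htM, smul_mk_eq_iff.2 ?_⟩
      obtain ⟨s, hs, rfl⟩ := htg
      simpa [mul_assoc] using hs
    obtain ⟨N, -, hN, hc⟩ := frobenius_theorem hF
    rcases IsSimpleGroup.eq_bot_or_eq_top_of_normal N hN with e | e
    · subst e
      exact hB.se.1 (Subgroup.isComplement'_bot_left.1 hc)
    · subst e
      exact hTne (Subgroup.isComplement'_top_left.1 hc)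
  haveI := Fact.mk hr
  -- an element of `M` outside `R` does not normalize it
  have hsyl : ∀ A : Subgroup G, A ≤ M → Nat.card A = r →
      ∀ B : Subgroup G, B ≤ M → Nat.card B = r → ∃ m ∈ M, conjS m A = B := by
    intro A hA hAc B hB' hBc
    have hmul : r ^ (Nat.card M).factorization r = r := by
      obtain ⟨k, hk⟩ := IsPGroup.iff_card.1 hB.T2
      rw [hB.card, hk, Nat.factorization_mul (pow_ne_zero _ two_ne_zero) hr.ne_zero, Finsupp.add_apply,
        Nat.factorization_pow]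
      simp [hr.factorization_self, Nat.factorization_eq_zero_of_not_dvd
        (fun hd => hr2 ((Nat.prime_dvd_prime_iff_eq hr Nat.prime_two).1 hd))]
    let A' : Sylow r M := Sylow.ofCard (A.subgroupOf M)
      (by rw [Nat.card_congr (Subgroup.subgroupOfEquivOfLe hA).toEquiv, hAc, hmul])
    let B' : Sylow r M := Sylow.ofCard (B.subgroupOf M)
      (by rw [Nat.card_congr (Subgroup.subgroupOfEquivOfLe hB').toEquiv, hBc, hmul])
    obtain ⟨⟨m, hm⟩, hmB⟩ := MulAction.exists_smul_eq M A' B'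
    refine ⟨m, hm, Subgroup.eq_of_le_of_card_ge ?_ (by rw [card_conjS, hAc, hBc])⟩
    rintro _ ⟨p, hp, rfl⟩
    have : (⟨m, hm⟩ : M) * ⟨p, hA hp⟩ * (⟨m, hm⟩ : M)⁻¹ ∈ (B' : Subgroup M) := by
      rw [← hmB]
      exact ⟨⟨p, hA hp⟩, hp, rfl⟩
    exact this
  -- the fixed points of a two-point stabilizer
  have key : ∀ y : G ⧸ M, y ≠ x₀ → ∀ z : G ⧸ M,
      (∀ g ∈ M ⊓ MulAction.stabilizer G y, g • z = z) → z = x₀ ∨ z = y := by
    intro y hy
    set R := M ⊓ MulAction.stabilizer G y with hR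
    have hRc : Nat.card R = r := (hB.two_point hO y hy).1
    have hRp : IsPGroup r R := IsPGroup.of_card (n := 1) (by rw [hRc, pow_one])
    have hRne : R ≠ ⊥ := fun e => by rw [e, Subgroup.card_bot] at hRc; exact hr.ne_one hRc.symm
    let Φ := {z : G ⧸ M // ∀ g ∈ R, g • z = z}
    set N := Subgroup.normalizer (R : Set G) with hN
    set Q := Subgroup.centralizer (R : Set G) with hQ
    have hQp : IsPGroup r Q := isPGroup_centralizer_subgroup hO.ipp hRp hRne
    have hQodd : ∀ q ∈ Q, orderOf q ≠ 2 := fun q hq e => by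
      obtain ⟨k, hk⟩ := (IsPGroup.iff_orderOf.1 hQp) ⟨q, hq⟩
      rw [Subgroup.orderOf_mk, e] at hk
      exact hr2 ((Nat.prime_dvd_prime_iff_eq Nat.prime_two hr).1
        (Nat.prime_two.dvd_of_dvd_pow (hk ▸ dvd_refl 2 : 2 ∣ r ^ k))).symm
    have hNΦ : ∀ n ∈ N, ∀ g ∈ R, g • (n • x₀) = n • x₀ := fun n hn g hg => by
      have h1 : n⁻¹ * g * n ∈ R :=
        (Subgroup.mem_normalizer_iff.1 hn _).2 (by rwa [show n * (n⁻¹ * g * n) * n⁻¹ = g by group])
      rw [smul_smul, show g * n = n * (n⁻¹ * g * n) by group, mul_smul, (hfix _).2 h1.1]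
    have hNM : ∀ n ∈ N, n ∈ M → n ∈ R := by
      intro n hn hnM
      have hle : Nat.card ↥(N ⊓ M) ∣ r := by
        have h1 : Nat.card ↥(N ⊓ M) ∣ Nat.card T * r := hB.card ▸ Subgroup.card_dvd_of_le inf_le_right
        obtain ⟨k, hk⟩ := IsPGroup.iff_card.1 hB.T2
        rw [hk] at h1
        refine (Nat.Coprime.pow_right k ((Nat.prime_two.coprime_iff_not_dvd.2 fun hd => ?_).symm)).dvd_of_dvd_mul_left h1
        obtain ⟨⟨t, htN, htM⟩, ht⟩ := exists_prime_orderOf_dvd_card' 2 hd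
        rw [← Subgroup.orderOf_coe] at ht
        change orderOf t = 2 at ht
        -- the involutions of `M` lie in `T`
        have htT : t ∈ T := by
          haveI : (T.subgroupOf M).Normal := ⟨fun w hw g => (Subgroup.mem_normalizer_iff.1 (hB.Tn g.2) w).1 hw⟩
          have hidx : (T.subgroupOf M).index = r := by
            have h3 := (T.subgroupOf M).card_mul_index
            rw [Nat.card_congr (Subgroup.subgroupOfEquivOfLe hB.TM).toEquiv, hB.card] at h3
            exact Nat.eq_of_mul_eq_mul_left Nat.card_pos h3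
          exact le_of_coprime_index (T.subgroupOf M) (Subgroup.zpowers (⟨t, htM⟩ : M)) (by
            rw [Nat.card_zpowers, Subgroup.orderOf_mk, ht, hidx]
            exact (Nat.coprime_primes Nat.prime_two hr).2 hr2.symm) (Subgroup.mem_zpowers _)
        refine hQodd t (Subgroup.mem_centralizer_iff.2 fun g hg => ?_) ht
        have h4 : g * t * g⁻¹ * t⁻¹ ∈ R := by
          rw [show g * t * g⁻¹ * t⁻¹ = g * (t * g⁻¹ * t⁻¹) by group]
          exact mul_mem hg ((Subgroup.mem_normalizer_iff.1 htN _).1 (inv_mem hg))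
        have h5 : g * t * g⁻¹ * t⁻¹ ∈ T :=
          mul_mem ((Subgroup.mem_normalizer_iff.1 (hB.Tn hg.1) t).1 htT) (inv_mem htT)
        have h6 := Subgroup.mem_bot.1 ((IsPGroup.disjoint_of_ne r 2 hr2 _ _ hRp hB.T2).le_bot ⟨h4, h5⟩)
        exact mul_inv_eq_iff_eq_mul.1 (mul_inv_eq_one.1 h6)
      have hRle : R ≤ N ⊓ M := le_inf Subgroup.le_normalizer inf_le_left
      rw [Subgroup.eq_of_le_of_card_ge hRle (hRc ▸ Nat.le_of_dvd hr.pos hle)]
      exact ⟨hn, hnM⟩
    -- the orbit of `x₀` under `N`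
    let ψ : N → Φ := fun n => ⟨(n : G) • x₀, hNΦ n n.2⟩
    have hψ : Function.Surjective ψ := by
      rintro ⟨z, hz⟩
      obtain ⟨g, rfl⟩ := QuotientGroup.mk_surjective z
      have hle : conjS g⁻¹ R ≤ M := fun w hw => by
        have := smul_mk_eq_iff.1 (hz _ (mem_conjS.1 hw))
        rwa [show g⁻¹ * (g⁻¹⁻¹ * w * g⁻¹) * g = w by group] at this
      obtain ⟨m, hm, hmR⟩ := hsyl _ hle (by rw [card_conjS, hRc]) R inf_le_left hRc
      have hgm : m * g⁻¹ ∈ N := Subgroup.mem_normalizer_iff.2 fun w => by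
        have e : conjS (m * g⁻¹) R = R := by
          conv_rhs => rw [← hmR]
          ext v
          rw [mem_conjS, mem_conjS, mem_conjS]
          rw [show (m * g⁻¹)⁻¹ * v * (m * g⁻¹) = g⁻¹⁻¹ * (m⁻¹ * v * m) * g⁻¹ by group]
        conv_rhs => rw [← e]
        rw [mem_conjS, show (m * g⁻¹)⁻¹ * (m * g⁻¹ * w * (m * g⁻¹)⁻¹) * (m * g⁻¹) = w by group]
      refine ⟨⟨(m * g⁻¹)⁻¹, inv_mem hgm⟩, Subtype.ext ?_⟩
      show (m * g⁻¹)⁻¹ • x₀ = (g : G ⧸ M)
      rw [mul_inv_rev, inv_inv, mul_smul, (hfix _).2 (inv_mem hm)]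
      show ((g • (1 : G) : G) : G ⧸ M) = g
      rw [smul_eq_mul, mul_one]
    have hNcard : Nat.card N = r * Nat.card Φ := by
      rw [mul_comm]
      refine card_eq_mul_of_fibres ψ (k := r) fun z => ?_
      obtain ⟨n₀, hn₀⟩ := hψ z
      conv_rhs => rw [← hRc]
      refine Nat.card_congr
        { toFun := fun n => ⟨(n₀ : G)⁻¹ * (n.1 : G), hNM _ (mul_mem (inv_mem n₀.2) n.1.2) ((hfix _).1 (by
            rw [mul_smul, inv_smul_eq_iff]
            exact congrArg Subtype.val (n.2.trans hn₀.symm)))⟩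
          invFun := fun ρ => ⟨⟨(n₀ : G) * ρ, mul_mem n₀.2 (Subgroup.le_normalizer ρ.2)⟩, by
            rw [← hn₀]
            refine Subtype.ext ?_
            show ((n₀ : G) * ρ) • x₀ = (n₀ : G) • x₀
            rw [mul_smul, (hfix _).2 ρ.2.1]⟩
          left_inv := fun n => Subtype.ext (Subtype.ext (mul_inv_cancel_left _ _))
          right_inv := fun ρ => Subtype.ext (inv_mul_cancel_left _ _) }
    -- the involutions of `N`
    let J := {t : G // orderOf t = 2 ∧ t ∈ N}
    have hne0 : ∀ t : J, t.1 • x₀ ≠ x₀ := fun t e => by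
      have h7 := Subgroup.orderOf_dvd_natCard R (hNM _ t.2.2 ((hfix _).1 e))
      rw [t.2.1, hRc] at h7
      exact hr2 ((Nat.prime_dvd_prime_iff_eq Nat.prime_two hr).1 h7).symm
    let θ : J → {z : Φ // z.1 ≠ x₀} := fun t => ⟨⟨t.1 • x₀, hNΦ _ t.2.2⟩, hne0 t⟩
    have hswap : ∀ z : Φ, z.1 ≠ x₀ → ∀ t : G, orderOf t = 2 → t • x₀ = z.1 → t ∈ N := by
      intro z hz t ht htz
      have hRz : M ⊓ MulAction.stabilizer G z.1 = R := (Subgroup.eq_of_le_of_card_ge
        (le_inf inf_le_left fun g hg => z.2 g hg) (by rw [(hB.two_point hO _ hz).1, hRc])).symm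
      have htz' : t • z.1 = x₀ := by rw [← htz, smul_smul, sq_one ht, one_smul]
      have hmap : ∀ g ∈ R, t * g * t⁻¹ ∈ R := by
        intro g hg
        have hg' : g ∈ M ∧ g • z.1 = z.1 := by rw [← hRz] at hg; exact hg
        rw [inv_self ht, ← hRz]
        refine ⟨(hfix _).1 ?_, MulAction.mem_stabilizer_iff.2 ?_⟩
        · rw [mul_smul, mul_smul, htz, hg'.2, htz']
        · rw [mul_smul, mul_smul, htz', (hfix _).2 hg'.1, htz]
      refine Subgroup.mem_normalizer_iff.2 fun w => ⟨hmap w, fun hw => ?_⟩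
      have := hmap _ hw
      rwa [inv_self ht, show t * (t * w * t) * t = (t * t) * w * (t * t) by group, sq_one ht, one_mul,
        mul_one] at this
    have hJ1 : Nat.card J = r * Nat.card {z : Φ // z.1 ≠ x₀} := by
      rw [mul_comm]
      refine card_eq_mul_of_fibres θ (k := r) fun z => ?_
      have h1 := card_swappers hB.se (Ne.symm z.2)
      rw [(hB.two_point hO _ z.2).2] at h1
      rw [← h1]
      refine Nat.card_congr
        { toFun := fun t => ⟨t.1.1, t.1.2.1, congrArg (fun w => w.1.1) t.2⟩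
          invFun := fun t => ⟨⟨t.1, t.2.1, hswap z.1 z.2 t.1 t.2.1 t.2.2⟩, Subtype.ext (Subtype.ext t.2.2)⟩
          left_inv := fun t => rfl
          right_inv := fun t => rfl }
    have hΦ0 : Nat.card {z : Φ // z.1 ≠ x₀} + 1 = Nat.card Φ := by
      let o : Φ := ⟨x₀, fun g hg => (hfix g).2 hg.1⟩
      have e : Option {z : Φ // z.1 ≠ x₀} ≃ Φ :=
        { toFun := fun z => z.elim o Subtype.val
          invFun := fun z => if hz : z.1 = x₀ then none else some ⟨z, hz⟩
          left_inv := fun z => by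
            rcases z with _ | z
            · simp [o]
            · simp [z.2]
          right_inv := fun z => by
            by_cases hz : z.1 = x₀
            · simp [hz, o]; exact Subtype.ext hz.symm
            · simp [hz] }
      rw [← Nat.card_congr e, Finite.card_option]
    have hy2 : ∀ g ∈ R, g • y = y := fun g hg => hg.2
    obtain ⟨t₀, ht₀N, ht₀⟩ : ∃ t, t ∈ N ∧ orderOf t = 2 := by
      have hpos : 0 < Nat.card J := by
        rw [hJ1]
        exact Nat.mul_pos hr.pos (Nat.card_pos_iff.2 ⟨⟨⟨⟨y, hy2⟩, hy⟩⟩, inferInstance⟩)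
      obtain ⟨⟨t, ht, htN⟩⟩ := (Nat.card_pos_iff.1 hpos).1
      exact ⟨t, htN, ht⟩
    -- `t₀` inverts the centralizer
    have hQn : ∀ n ∈ N, ∀ q ∈ Q, n * q * n⁻¹ ∈ Q := fun n hn q hq => Subgroup.mem_centralizer_iff.2 fun g hg => by
      have h1 := Subgroup.mem_centralizer_iff.1 hq (n⁻¹ * g * n)
        ((Subgroup.mem_normalizer_iff.1 hn _).2 (by rwa [show n * (n⁻¹ * g * n) * n⁻¹ = g by group]))
      calc g * (n * q * n⁻¹) = n * (n⁻¹ * g * n * q) * n⁻¹ := by group
        _ = n * (q * (n⁻¹ * g * n)) * n⁻¹ := by rw [h1]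
        _ = n * q * n⁻¹ * g := by group
    have hinv : ∀ q ∈ Q, t₀ * q * t₀ = q⁻¹ := by
      let f : Q → Q := fun q => ⟨(q : G)⁻¹ * (t₀ * q * t₀⁻¹), mul_mem (inv_mem q.2) (hQn _ ht₀N _ q.2)⟩
      have hf : Function.Injective f := fun p q e => by
        have e' : (p : G)⁻¹ * (t₀ * p * t₀⁻¹) = (q : G)⁻¹ * (t₀ * q * t₀⁻¹) := congrArg Subtype.val e
        set c := (q : G) * (p : G)⁻¹ with hc
        have hct : Commute t₀ c := by
          refine mul_inv_eq_iff_eq_mul.1 ?_
          calc t₀ * c * t₀⁻¹ = t₀ * q * t₀⁻¹ * (t₀ * p * t₀⁻¹)⁻¹ := by rw [hc]; group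
            _ = q * ((q : G)⁻¹ * (t₀ * q * t₀⁻¹)) * ((p : G)⁻¹ * (t₀ * p * t₀⁻¹))⁻¹ * (p : G)⁻¹ := by group
            _ = c := by rw [← e', hc]; group
        by_contra hne
        have hc1 : c ≠ 1 := fun h0 => hne (Subtype.ext (mul_inv_eq_one.1 h0).symm)
        have hcQ : c ∈ Q := mul_mem q.2 (inv_mem p.2)
        obtain ⟨k, hk⟩ := (IsPGroup.iff_orderOf.1 hQp) ⟨c, hcQ⟩
        rw [Subgroup.orderOf_mk] at hk
        have hk0 : k ≠ 0 := fun h0 => hc1 (orderOf_eq_one_iff.1 (by rw [hk, h0, pow_zero]))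
        exact hr2 (EPPO.prime_eq_of_commute hO.ipp hr Nat.prime_two
          (orderOf_pow_orderOf_div (orderOf_pos c).ne' (hk ▸ dvd_pow_self r hk0)) ht₀ (hct.symm.pow_left _))
      intro q hq
      obtain ⟨p, hp⟩ := (Finite.injective_iff_surjective.1 hf) ⟨q, hq⟩
      have e : (p : G)⁻¹ * (t₀ * p * t₀⁻¹) = q := congrArg Subtype.val hp
      rw [inv_self ht₀] at e
      rw [← e]
      calc t₀ * ((p : G)⁻¹ * (t₀ * p * t₀)) * t₀ = t₀ * (p : G)⁻¹ * t₀ * p * (t₀ * t₀) := by group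
        _ = t₀ * (p : G)⁻¹ * t₀ * p := by rw [sq_one ht₀, mul_one]
        _ = ((p : G)⁻¹ * (t₀⁻¹ * p * t₀⁻¹))⁻¹ := by group
        _ = _ := by rw [inv_self ht₀]
    -- the top of `N` is cyclic of order a power of two
    haveI : IsCyclic R := isCyclic_of_prime_card hRc
    let χ : N →* MulAut R := R.normalizerMonoidHom
    have hker : χ.ker = Q.subgroupOf N := Subgroup.normalizerMonoidHom_ker _
    haveI : IsCyclic (MulAut R) := by
      haveI : Fact (Nat.card R).Prime := ⟨hRc.symm ▸ hr⟩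
      exact isCyclic_of_surjective (IsCyclic.mulAutMulEquiv R).symm (MulEquiv.surjective _)
    have hχt : orderOf (χ ⟨t₀, ht₀N⟩) = 2 := by
      rcases (Nat.dvd_prime Nat.prime_two).1 (ht₀ ▸ (Subgroup.orderOf_mk t₀ ht₀N) ▸ orderOf_map_dvd χ ⟨t₀, ht₀N⟩)
        with e | e
      · exfalso
        have h9 : (⟨t₀, ht₀N⟩ : N) ∈ χ.ker := orderOf_eq_one_iff.1 e
        rw [hker] at h9
        exact hQodd t₀ h9 ht₀
      · exact e
    have hidx : ∃ a, 1 ≤ a ∧ Nat.card χ.range = 2 ^ a := by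
      obtain ⟨c, hc⟩ := IsCyclic.exists_ofOrder_eq_natCard (α := χ.range)
      have h2 : 2 ∣ Nat.card χ.range := hχt ▸ Subgroup.orderOf_dvd_natCard _ ⟨_, rfl⟩
      have hord : Ord χ.range := (hO.subgroup N).of_surjective χ.rangeRestrict χ.rangeRestrict_surjective
      have hc1 : c ≠ 1 := fun e => by rw [e, orderOf_one] at hc; omega
      rcases hord c hc1 with ⟨k, hk⟩ | ⟨hp, -⟩
      · refine ⟨k, ?_, hc.symm.trans hk⟩
        rcases k with _ | k
        · exact absurd (orderOf_eq_one_iff.1 (hk.trans (pow_zero 2))) hc1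
        · omega
      · rw [hc] at hp
        exact ⟨1, le_rfl, by rw [pow_one, ← (Nat.prime_dvd_prime_iff_eq Nat.prime_two hp).1 h2]⟩
    obtain ⟨a, ha1, ha⟩ := hidx
    have hQN : Q ≤ N := fun q hq => Subgroup.mem_normalizer_iff.2 fun w => by
      have hc : ∀ v ∈ R, q * v * q⁻¹ = v := fun v hv => by
        rw [← Subgroup.mem_centralizer_iff.1 hq v hv, mul_inv_cancel_right]
      refine ⟨fun hw => (hc w hw).symm ▸ hw, fun hw => ?_⟩
      have h8 : q * w * q⁻¹ = w := by
        have h3 := congrArg (fun v => q⁻¹ * v * q) (hc _ hw)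
        simpa [mul_assoc] using h3
      rwa [h8] at hw
    have hN2 : Nat.card N = Nat.card Q * 2 ^ a := by
      rw [← χ.ker.card_mul_index, Subgroup.index_ker, ha, hker,
        Nat.card_congr (Subgroup.subgroupOfEquivOfLe hQN).toEquiv]
    have hJ2 : Nat.card J = Nat.card Q := by
      refine (Nat.card_eq_of_bijective (fun q : Q => (⟨t₀ * q, ?_, mul_mem ht₀N (hQN q.2)⟩ : J)) ⟨?_, ?_⟩).symm
      · refine orderOf_eq_prime ?_ fun e => ?_
        · rw [pow_two, show t₀ * q * (t₀ * q) = t₀ * (q : G) * t₀ * q by group, hinv _ q.2, inv_mul_cancel]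
        · exact hQodd t₀ (eq_inv_of_mul_eq_one_left e ▸ inv_mem q.2) ht₀
      · exact fun p q e => Subtype.ext (mul_left_cancel (congrArg Subtype.val e))
      · rintro ⟨t, ht, htN⟩
        have hχ : χ ⟨t, htN⟩ = χ ⟨t₀, ht₀N⟩ := by
          have hto : orderOf (χ ⟨t, htN⟩) = 2 := by
            rcases (Nat.dvd_prime Nat.prime_two).1 (ht ▸ (Subgroup.orderOf_mk t htN) ▸ orderOf_map_dvd χ ⟨t, htN⟩)
              with e | e
            · exfalso
              have h9 : (⟨t, htN⟩ : N) ∈ χ.ker := orderOf_eq_one_iff.1 e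
              rw [hker] at h9
              exact hQodd t h9 ht
            · exact e
          exact eq_of_two_cyclic hto hχt
        refine ⟨⟨t₀⁻¹ * t, ?_⟩, Subtype.ext (mul_inv_cancel_left _ _)⟩
        have : (⟨t₀, ht₀N⟩ : N)⁻¹ * ⟨t, htN⟩ ∈ χ.ker := by
          rw [MonoidHom.mem_ker, map_mul, map_inv, hχ, inv_mul_cancel]
        rw [hker] at this
        exact this
    -- count
    have hΦ2 : Nat.card Φ = 2 := by
      have e1 : r * Nat.card Φ = Nat.card Q * 2 ^ a := hNcard.symm.trans hN2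
      rw [← hJ2, hJ1] at e1
      have e2 : Nat.card Φ = Nat.card {z : Φ // z.1 ≠ x₀} * 2 ^ a :=
        Nat.eq_of_mul_eq_mul_left hr.pos (by rw [e1]; ring)
      have h2a : 2 ≤ 2 ^ a := Nat.le_self_pow (by omega) 2
      have := Nat.mul_le_mul_left (Nat.card {z : Φ // z.1 ≠ x₀}) h2a
      have hpos : 0 < Nat.card {z : Φ // z.1 ≠ x₀} :=
        Nat.card_pos_iff.2 ⟨⟨⟨⟨y, hy2⟩, hy⟩⟩, inferInstance⟩
      omega
    intro z hz
    by_contra hno
    push Not at hno
    haveI := Fintype.ofFinite Φ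
    have h3 : 2 < Fintype.card Φ := Fintype.two_lt_card_iff.2
      ⟨⟨x₀, fun g hg => (hfix g).2 hg.1⟩, ⟨y, hy2⟩, ⟨z, hz⟩, fun e => hy (congrArg Subtype.val e).symm,
        fun e => hno.1 (congrArg Subtype.val e).symm, fun e => hno.2 (congrArg Subtype.val e).symm⟩
    rw [← Nat.card_eq_fintype_card, hΦ2] at h3
    omega
  -- the properties
  have htrans : ∀ z w : G ⧸ M, z ≠ x₀ → w ≠ x₀ → ∃ m ∈ M, m • z = w := by
    intro z w hz hw
    obtain ⟨m, hm, hmK⟩ := hsyl _ inf_le_left (hB.two_point hO z hz).1 _ inf_le_left (hB.two_point hO w hw).1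
    refine ⟨m, hm, (key w hw (m • z) fun g hg => ?_).resolve_left fun e => hz ?_⟩
    · rw [← hmK] at hg
      have h1 : (m⁻¹ * g * m) • z = z := (mem_conjS.1 hg).2
      rw [smul_smul, show g * m = m * (m⁻¹ * g * m) by group, mul_smul, h1]
    · rw [← (hfix m).2 hm] at e
      exact smul_left_cancel m e
  refine ⟨⟨fun {g g'} hgg => ?_⟩, ?_, ?_, ?_, ?_⟩
  · have hker : g'⁻¹ * g ∈ M.normalCore := fun c => by
      have h1 : (g'⁻¹ * g) • ((c⁻¹ : G) : G ⧸ M) = (c⁻¹ : G) := by
        rw [mul_smul, hgg, inv_smul_smul]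
      have := smul_mk_eq_iff.1 h1
      rwa [inv_inv] at this
    rcases IsSimpleGroup.eq_bot_or_eq_top_of_normal M.normalCore inferInstance with e | e
    · rw [e, Subgroup.mem_bot] at hker
      exact (inv_mul_eq_one.1 hker).symm
    · exact absurd (top_le_iff.1 (e.ge.trans (Subgroup.normalCore_le M))) hB.se.1
  · rw [MulAction.is_two_pretransitive_iff]
    intro a b c d hab hcd
    obtain ⟨g, hg⟩ := exists_smul_eq' x₀ a
    obtain ⟨g', hg'⟩ := exists_smul_eq' x₀ c
    obtain ⟨m, hm, hmb⟩ := htrans (g⁻¹ • b) (g'⁻¹ • d) (fun e => hab (by rw [← hg, ← e, smul_inv_smul]))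
      (fun e => hcd (by rw [← hg', ← e, smul_inv_smul]))
    refine ⟨g' * m * g⁻¹, ?_, ?_⟩
    · rw [← hg, mul_smul, inv_smul_smul, mul_smul, (hfix m).2 hm, hg']
    · rw [mul_smul, mul_smul, hmb, smul_inv_smul]
  · intro g a b c hab hbc hac hga hgb hgc
    obtain ⟨k, hk⟩ := exists_smul_eq' x₀ a
    set g₁ := k⁻¹ * g * k
    have hfx : ∀ p : G ⧸ M, g • p = p → g₁ • (k⁻¹ • p) = k⁻¹ • p := fun p hp => by
      simp only [g₁]; rw [mul_smul, mul_smul, smul_inv_smul, hp]
    have ha : k⁻¹ • a = x₀ := by rw [← hk, inv_smul_smul]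
    have h1 : g₁ ∈ M := (hfix _).1 (by rw [← ha]; exact hfx a hga)
    have hb0 : k⁻¹ • b ≠ x₀ := fun e => hab (smul_left_cancel k⁻¹ (ha.trans e.symm))
    by_contra hg1
    have hg1' : g₁ ≠ 1 := fun e => hg1 (by
      have := congrArg (fun w => k * w * k⁻¹) e
      simpa [g₁, mul_assoc] using this)
    set R := M ⊓ MulAction.stabilizer G (k⁻¹ • b) with hR
    have hgR : g₁ ∈ R := ⟨h1, hfx b hgb⟩
    have hRc := (hB.two_point hO _ hb0).1
    have hgen : Subgroup.zpowers g₁ = R := by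
      refine Subgroup.eq_of_le_of_card_ge (Subgroup.zpowers_le.2 hgR) ?_
      have hd := Subgroup.orderOf_dvd_natCard R hgR
      rw [hRc] at hd
      rw [hRc, Nat.card_zpowers, ((Nat.dvd_prime hr).1 hd).resolve_left fun e => hg1' (orderOf_eq_one_iff.1 e)]
    rcases key _ hb0 (k⁻¹ • c) (fun w hw => by
      obtain ⟨i, rfl⟩ := Subgroup.mem_zpowers_iff.1 (hgen.ge hw)
      exact MulAction.mem_stabilizer_iff.1
        (zpow_mem (MulAction.mem_stabilizer_iff.2 (hfx c hgc)) i)) with e | e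
    · exact hac (smul_left_cancel k⁻¹ (ha.trans e.symm))
    · exact hbc (smul_left_cancel k⁻¹ e.symm)
  · obtain ⟨y, hy⟩ := exists_ne hB.se x₀
    have hc := (hB.two_point hO y hy).1
    obtain ⟨⟨g, hg⟩, hg1⟩ := Subgroup.ne_bot_iff_exists_ne_one.1
      (show M ⊓ MulAction.stabilizer G y ≠ ⊥ from fun e => by
        rw [e, Subgroup.card_bot] at hc; exact hr.ne_one hc.symm)
    exact ⟨g, fun e => hg1 (Subtype.ext e), x₀, y, hy.symm, (hfix g).2 hg.1, hg.2⟩
  · intro N hN hNt
    rcases IsSimpleGroup.eq_bot_or_eq_top_of_normal N hN with e | e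
    · exfalso
      subst e
      haveI := hNt
      obtain ⟨y, hy⟩ := exists_ne hB.se x₀
      obtain ⟨⟨n, hn⟩, hny⟩ := hNt.exists_smul_eq x₀ y
      rw [Subgroup.mem_bot] at hn
      subst hn
      exact hy (hny.symm.trans (one_smul G x₀))
    · subst e
      refine ⟨x₀, fun hb => hTne ((Subgroup.eq_bot_iff_forall M).2 fun g hg => ?_)⟩
      have h1 : (⟨g, Subgroup.mem_top g⟩ : (⊤ : Subgroup G)) ∈ MulAction.stabilizer (⊤ : Subgroup G) x₀ :=
        MulAction.mem_stabilizer_iff.2 ((hfix g).2 hg)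
      exact congrArg Subtype.val (Subgroup.mem_bot.1 (hb.le h1))

end

/-- Without a self-centralizing four-group the group is linear or of Suzuki order. -/
theorem psl_or_suzuki [IsSimpleGroup G] (hna : ∃ a b : G, a * b ≠ b * a) (h : Climb G) (T : Sylow 2 G)
    (hne : (T : Subgroup G) ≠ ⊥) :
    (∃ (F : Type) (_ : Field F) (_ : Fintype F),
      Nonempty (G ≃* Matrix.ProjectiveSpecialLinearGroup (Fin 2) F)) ∨ Cfsg.IsSuzuki G := by
  classical
  haveI : Fact (Nat.Prime 2) := ⟨Nat.prime_two⟩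
  have htop : Subgroup.normalizer ((cOf (T : Subgroup G) : Subgroup G) : Set G) ≠ ⊤ := by
    intro e
    haveI : (cOf (T : Subgroup G)).Normal := Subgroup.normalizer_eq_top_iff.1 e
    haveI : Nontrivial (T : Subgroup G) := (Subgroup.nontrivial_iff_ne_bot _).2 hne
    rcases IsSimpleGroup.eq_bot_or_eq_top_of_normal (cOf (T : Subgroup G)) inferInstance with h0 | h0
    · exact cS_ne_bot T.isPGroup'
        ((Subgroup.map_eq_bot_iff_of_injective _ (Subgroup.subtype_injective _)).1 h0)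
    · have htopT : (T : Subgroup G) = ⊤ := top_le_iff.1 (h0 ▸ Subgroup.map_subtype_le _)
      obtain ⟨k, hk⟩ := IsPGroup.iff_card.1 T.isPGroup'
      rw [htopT, Subgroup.card_top] at hk
      exact Char.BSW.not_simple_of_solvable hna
        (Char.isSolvable_of_two_primes Nat.prime_two Nat.prime_two (Nat.card G) rfl fun p hp hd =>
          Or.inl ((Nat.prime_dvd_prime_iff_eq hp Nat.prime_two).1 (hp.dvd_of_dvd_pow (hk ▸ hd))))
  obtain ⟨r, hB⟩ := exists_base h T hne htop
  haveI := Fintype.ofFinite (G ⧸ Subgroup.normalizer ((cOf (T : Subgroup G) : Subgroup G) : Set G))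
  exact Lie.ZassenhausSuzuki.classification (hB.zassenhaus h.ord hna)

end Cfsg.Agent.Solv.EPPOSeven
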