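import Cfsg.Agent.Lib.Solv.EPPOSeven.Offender
import Cfsg.Agent.Lib.Solv.PGroupPhi
import Cfsg.Agent.Lib.Classical.Dickson.Tools
import Cfsg.Agent.Lib.Lead.ProjLine
import Cfsg.Agent.S2808

/-!
A characteristic subgroup of the Sylow 2-subgroup normal in the local group.
-/

set_option autoImplicit false
set_option linter.style.haveILetI false

namespace Cfsg.Agent.Solv.EPPOSeven

open Cfsg
open scoped commutatorElement

universe u

section

variable (S : Type u) [Group S]

/-- The centre of the Thompson subgroup. -/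
def zjOf : Subgroup S :=
  Cfsg.thompsonSubgroupA S ⊓ Subgroup.centralizer (Cfsg.thompsonSubgroupA S : Set S)

/-- The hypothesis of pushing up. -/
def Big : Prop :=
  ⁅zjOf S, (⊤ : Subgroup S)⁆ ≠ ⊥ ∨
    (⁅frattini S, (⊤ : Subgroup S)⁆ ⊔ (frattini ↥(frattini S)).map (frattini S).subtype) ≠ ⊥

variable [Finite S]

theorem exists_pair (hS : IsPGroup 2 S) (hb : Big S) :
    ∃ S₁ S₂ : Subgroup S, S₁ ≠ ⊥ ∧ S₂ ≠ ⊥ ∧ S₁.Characteristic ∧ S₂.Characteristic ∧
      S₁ ≤ Subgroup.center S ∧ S₂ ≤ Subgroup.centralizer (zjOf S : Set S) ∧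
      (S₂.subgroupOf (Subgroup.centralizer (zjOf S : Set S))).Characteristic ∧
      ∀ (G : Type u) [Group G] [Finite G] (τ : S →* G), Function.Injective τ →
        (∃ P : Sylow 2 G, (P : Subgroup G) = τ.range) →
        Subgroup.centralizer (Cfsg.pCore 2 G : Set G) ≤ Cfsg.pCore 2 G →
        (∃! M : Subgroup G, IsCoatom M ∧ τ.range ≤ M) →
        (∃ (K : Subgroup G) (_ : K.Normal) (F : Type) (_ : Field F) (_ : Fintype F) (n : ℕ), 1 ≤ n ∧
          Fintype.card F = 2 ^ n ∧ Nonempty (G ⧸ K ≃* Matrix.ProjectiveSpecialLinearGroup (Fin 2) F)) →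
        (S₁.map τ).Normal ∨ (S₂.map τ).Normal :=
  haveI : Fact (Nat.Prime 2) := ⟨Nat.prime_two⟩
  S2808.result hS
    (⁅frattini S, (⊤ : Subgroup S)⁆ ⊔ (frattini ↥(frattini S)).map (frattini S).subtype)
    (by rw [if_pos rfl]) hb

/-- The chosen characteristic subgroup. -/
noncomputable def cS : Subgroup S :=
  @dite _ (IsPGroup 2 S ∧ Big S) (_root_.Classical.propDecidable _)
    (fun h => (exists_pair S h.1 h.2).choose_spec.choose) (fun _ => Cfsg.thompsonSubgroupA S)

instance cS_characteristic : (cS S).Characteristic := by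
  unfold cS
  split
  · next h => exact (exists_pair S h.1 h.2).choose_spec.choose_spec.2.2.2.1
  · exact Subgroup.characteristic_iff_map_eq.2 fun σ => Fusion.map_thompsonSubgroupA σ

theorem exists_maxAbelian : ∃ A, A ∈ Cfsg.maxAbelianSubgroups S := by
  haveI : Nonempty {B : Subgroup S // IsMulCommutative B} :=
    ⟨⟨⊥, ⟨⟨fun a b => Subsingleton.elim _ _⟩⟩⟩⟩
  obtain ⟨⟨A, hA⟩, hmax⟩ := Finite.exists_max (fun B : {B : Subgroup S // IsMulCommutative B} => Nat.card B.1)
  exact ⟨A, hA, fun B hB => hmax ⟨B, hB⟩⟩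

variable {S}

theorem center_le_max {A : Subgroup S} (hA : A ∈ Cfsg.maxAbelianSubgroups S) : Subgroup.center S ≤ A := by
  obtain ⟨hc, hmax⟩ := hA
  have hcomm : IsMulCommutative (A ⊔ Subgroup.center S : Subgroup S) := by
    have hle : A ⊔ Subgroup.center S ≤ Subgroup.centralizer ((A ⊔ Subgroup.center S : Subgroup S) : Set S) := by
      refine sup_le ?_ (Subgroup.center_le_centralizer _)
      rw [Subgroup.le_centralizer_iff]
      exact sup_le (fun a ha => Subgroup.mem_centralizer_iff.2 fun b hb =>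
        congrArg Subtype.val (mul_comm' (⟨b, hb⟩ : A) ⟨a, ha⟩)) (Subgroup.center_le_centralizer _)
    exact ⟨⟨fun a b => Subtype.ext ((Subgroup.mem_centralizer_iff.1 (hle b.2) a a.2))⟩⟩
  have := Subgroup.eq_of_le_of_card_ge (le_sup_left : A ≤ A ⊔ Subgroup.center S) (hmax _ hcomm)
  exact le_sup_right.trans this.ge

theorem center_le_zjOf : Subgroup.center S ≤ zjOf S := by
  obtain ⟨A, hA⟩ := exists_maxAbelian S
  exact le_inf ((center_le_max hA).trans (le_sSup hA)) (Subgroup.center_le_centralizer _)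

theorem center_ne_bot (hS : IsPGroup 2 S) [Nontrivial S] : Subgroup.center S ≠ ⊥ := by
  haveI : Fact (Nat.Prime 2) := ⟨Nat.prime_two⟩
  haveI := hS.center_nontrivial
  exact (Subgroup.nontrivial_iff_ne_bot _).1 inferInstance

theorem cS_ne_bot (hS : IsPGroup 2 S) [Nontrivial S] : cS S ≠ ⊥ := by
  unfold cS
  split
  · next h => exact (exists_pair S h.1 h.2).choose_spec.choose_spec.2.1
  · intro e
    exact center_ne_bot hS (le_bot_iff.1 ((center_le_zjOf.trans inf_le_left).trans e.le))

end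

section

variable {L : Type u} [Group L] [Finite L]

/-- An involution outside the 2-core. -/
theorem Local.exists_invol (h : Local L) : ∃ i : L, orderOf i = 2 ∧ i ∉ Cfsg.pCore 2 L := by
  haveI : Fact (Nat.Prime 2) := ⟨Nat.prime_two⟩
  haveI := pCore_normal (G := L) 2
  obtain ⟨r, x, hr, hr2, hxo, hx, hn, hcen⟩ := h.exists_data
  haveI := Fact.mk hr
  haveI := hn
  set π := QuotientGroup.mk' (Cfsg.pCore 2 L) with hπ
  set K := (Subgroup.zpowers (π x)).comap π with hK
  have hxK : x ∈ K := Subgroup.mem_zpowers (π x)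
  obtain ⟨j, hj⟩ := IsPGroup.iff_card.1 h.core_two
  have hcK : Nat.card K = r * 2 ^ j := by rw [hK, hπ, card_comap_mk', Nat.card_zpowers, hx, hj]
  let R : Sylow r K := Sylow.ofCard (Subgroup.zpowers (⟨x, hxK⟩ : K)) (by
    rw [Nat.card_zpowers, Subgroup.orderOf_mk, hxo, hcK,
      Nat.factorization_mul hr.ne_zero (pow_ne_zero _ two_ne_zero), Finsupp.add_apply, Nat.factorization_pow]
    simp [hr.factorization_self, Nat.factorization_eq_zero_of_not_dvd
      (fun hd => hr2 ((Nat.prime_dvd_prime_iff_eq hr Nat.prime_two).1 hd))])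
  have htop := Sylow.normalizer_sup_eq_top R
  set N := Subgroup.normalizer (((R : Subgroup K).map K.subtype : Subgroup L) : Set L) with hN
  have hRmap : (R : Subgroup K).map K.subtype = Subgroup.zpowers x := by
    show (Subgroup.zpowers (⟨x, hxK⟩ : K)).map K.subtype = _
    rw [MonoidHom.map_zpowers]; rfl
  have hsurj : ∀ q : L ⧸ Cfsg.pCore 2 L, ∃ g ∈ N, π g = q := fun q => by
    obtain ⟨g, rfl⟩ := QuotientGroup.mk'_surjective _ q
    have hg : g ∈ ((N ⊔ K : Subgroup L) : Set L) := by rw [hN, htop]; trivial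
    haveI : K.Normal := hn.comap π
    rw [Subgroup.mul_normal] at hg
    obtain ⟨a, ha, b, hb, rfl⟩ := hg
    obtain ⟨k, hk⟩ := Subgroup.mem_zpowers_iff.1 (show π b ∈ Subgroup.zpowers (π x) from hb)
    refine ⟨a * x ^ k, mul_mem ha (Subgroup.le_normalizer (hRmap.symm ▸ zpow_mem (Subgroup.mem_zpowers x) k)), ?_⟩
    rw [map_mul, map_mul, map_zpow, hk]
  have h2 : 2 ∣ Nat.card (L ⧸ Cfsg.pCore 2 L) := by
    obtain ⟨P⟩ : Nonempty (Sylow 2 L) := inferInstance
    by_contra hnd
    have hle : (P : Subgroup L) ≤ Cfsg.pCore 2 L := le_of_coprime_index _ _ (by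
      obtain ⟨m, hm⟩ := IsPGroup.iff_card.1 P.isPGroup'
      rw [hm]
      exact Nat.Coprime.pow_left m ((Nat.prime_two.coprime_iff_not_dvd).2 hnd))
    have := P.is_maximal' h.core_two hle
    exact h.notNormal P (this ▸ inferInstance)
  have h2N : 2 ∣ Nat.card N := h2.trans
    (Subgroup.card_dvd_of_surjective (π.comp N.subtype) fun q => by
      obtain ⟨g, hg, e⟩ := hsurj q
      exact ⟨⟨g, hg⟩, e⟩)
  obtain ⟨⟨i, hi⟩, hio⟩ := exists_prime_orderOf_dvd_card' 2 h2N
  rw [Subgroup.orderOf_mk] at hio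
  refine ⟨i, hio, fun hiD => ?_⟩
  rw [hN, hRmap, Subgroup.mem_normalizer_iff] at hi
  have h1 : i * x * i⁻¹ * x⁻¹ ∈ Subgroup.zpowers x :=
    mul_mem ((hi x).1 (Subgroup.mem_zpowers x)) (inv_mem (Subgroup.mem_zpowers x))
  have h1' : i * x * i⁻¹ * x⁻¹ ∈ Cfsg.pCore 2 L := by
    rw [show i * x * i⁻¹ * x⁻¹ = i * (x * i⁻¹ * x⁻¹) by group]
    exact mul_mem hiD (Subgroup.Normal.conj_mem inferInstance _ (inv_mem hiD) x)
  have h3 : i * x * i⁻¹ * x⁻¹ = 1 := Subgroup.mem_bot.1 ((IsPGroup.disjoint_of_ne r 2 hr2 _ _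
    (IsPGroup.of_card (n := 1) (by rw [Nat.card_zpowers, hxo, pow_one])) h.core_two).le_bot ⟨h1, h1'⟩)
  have h4 := h.inf_cent hr hr2 hxo hiD (mul_inv_eq_iff_eq_mul.1 (mul_inv_eq_one.1 h3))
  rw [h4, orderOf_one] at hio
  omega

theorem zmod_two_sq : ∀ c : ZMod 2, c ^ 2 = 1 → c = 1 := by decide

theorem psl_two_iso (Q : Type u) [Group Q] [Finite Q] (h6 : Nat.card Q = 6) (hna : ∃ a b : Q, a * b ≠ b * a) :
    Nonempty (Q ≃* Matrix.ProjectiveSpecialLinearGroup (Fin 2) (ZMod 2)) := by
  classical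
  haveI : Fact (Nat.Prime 2) := ⟨Nat.prime_two⟩
  haveI : Fact (Nat.Prime 3) := ⟨Nat.prime_three⟩
  obtain ⟨a, ha⟩ := exists_prime_orderOf_dvd_card' (G := Q) 3 (by rw [h6]; norm_num)
  obtain ⟨b, hb⟩ := exists_prime_orderOf_dvd_card' (G := Q) 2 (by rw [h6]; norm_num)
  have hidx : Nat.card (Q ⧸ Subgroup.zpowers b) = 3 := by
    have := (Subgroup.zpowers b).card_mul_index
    rw [Nat.card_zpowers, hb, h6] at this
    rw [← Subgroup.index_eq_card]
    omega
  have hgen : Subgroup.zpowers a ⊔ Subgroup.zpowers b = ⊤ := by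
    apply Subgroup.eq_top_of_le_card
    have h1 := Subgroup.card_dvd_of_le (le_sup_left : Subgroup.zpowers a ≤ Subgroup.zpowers a ⊔ Subgroup.zpowers b)
    have h2 := Subgroup.card_dvd_of_le (le_sup_right : Subgroup.zpowers b ≤ Subgroup.zpowers a ⊔ Subgroup.zpowers b)
    rw [Nat.card_zpowers, ha] at h1
    rw [Nat.card_zpowers, hb] at h2
    rw [h6]
    exact Nat.le_of_dvd Nat.card_pos ((by norm_num : Nat.Coprime 2 3).mul_dvd_of_dvd_of_dvd h2 h1)
  let f : Q →* Equiv.Perm (Q ⧸ Subgroup.zpowers b) := MulAction.toPermHom Q (Q ⧸ Subgroup.zpowers b)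
  have hinj : Function.Injective f := by
    rw [← MonoidHom.ker_eq_bot_iff, ← Subgroup.normalCore_eq_ker]
    by_contra hne
    have hcore : (Subgroup.zpowers b).normalCore = Subgroup.zpowers b := by
      refine Subgroup.eq_of_le_of_card_ge (Subgroup.normalCore_le _) ?_
      have h1 := Subgroup.card_dvd_of_le (Subgroup.normalCore_le (Subgroup.zpowers b))
      rw [Nat.card_zpowers, hb] at h1 ⊢
      rcases (Nat.dvd_prime Nat.prime_two).1 h1 with e | e
      · exact absurd (Subgroup.card_eq_one.1 e) hne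
      · exact e.ge
    haveI : (Subgroup.zpowers b).Normal := hcore ▸ inferInstance
    haveI : IsMulCommutative (Subgroup.zpowers a) := inferInstance
    have hab : Commute a b := by
      have h1 : a * b * a⁻¹ ∈ Subgroup.zpowers b :=
        Subgroup.Normal.conj_mem inferInstance _ (Subgroup.mem_zpowers b) a
      obtain ⟨k, hk⟩ := Subgroup.mem_zpowers_iff.1 h1
      rw [← zpow_mod_orderOf, hb] at hk
      rcases Int.emod_two_eq k with e | e
      · rw [show (((2 : ℕ) : ℤ)) = 2 from rfl, e, zpow_zero] at hk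
        have h2 : b = 1 := by simpa using hk.symm
        rw [h2, orderOf_one] at hb
        omega
      · rw [show (((2 : ℕ) : ℤ)) = 2 from rfl, e, zpow_one] at hk
        exact (mul_inv_eq_iff_eq_mul.1 hk.symm)
    obtain ⟨p, q, hpq⟩ := hna
    refine hpq ?_
    have hcen : ∀ g : Q, Commute g a ∧ Commute g b := by
      intro g
      have hle : Subgroup.zpowers a ⊔ Subgroup.zpowers b ≤ Subgroup.centralizer ({a, b} : Set Q) :=
        sup_le (Subgroup.zpowers_le.2 (Subgroup.mem_centralizer_iff.2 (by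
          rintro w (rfl | rfl)
          · rfl
          · exact hab.symm))) (Subgroup.zpowers_le.2 (Subgroup.mem_centralizer_iff.2 (by
          rintro w (rfl | rfl)
          · exact hab
          · rfl)))
      have := Subgroup.mem_centralizer_iff.1 (hle (hgen.ge (Subgroup.mem_top g)))
      exact ⟨(this a (Or.inl rfl)).symm, (this b (Or.inr rfl)).symm⟩
    have hle : Subgroup.zpowers a ⊔ Subgroup.zpowers b ≤ Subgroup.centralizer ({p} : Set Q) :=
      sup_le (Subgroup.zpowers_le.2 (Subgroup.mem_centralizer_singleton_iff.2 (hcen p).1.eq.symm))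
        (Subgroup.zpowers_le.2 (Subgroup.mem_centralizer_singleton_iff.2 (hcen p).2.eq.symm))
    exact (Subgroup.mem_centralizer_singleton_iff.1 (hle (hgen.ge (Subgroup.mem_top q)))).symm
  have hbij : Function.Bijective f := by
    rw [Nat.bijective_iff_injective_and_card]
    exact ⟨hinj, by rw [h6, Nat.card_perm, hidx]; rfl⟩
  have hc : Subgroup.center (Matrix.SpecialLinearGroup (Fin 2) (ZMod 2)) = ⊥ := by
    rw [Subgroup.eq_bot_iff_forall]
    intro g hg
    obtain ⟨c, hc, hcg⟩ := Matrix.SpecialLinearGroup.mem_center_iff.1 hg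
    rw [Fintype.card_fin] at hc
    obtain rfl : c = 1 := zmod_two_sq c hc
    exact Subtype.ext (hcg.symm.trans (map_one _))
  obtain ⟨e⟩ := Cfsg.Agent.Lead.ProjLine.sl22 (F := ZMod 2) (by simp)
  exact ⟨((MulEquiv.ofBijective f hbij).trans (Finite.equivFinOfCardEq hidx).permCongrHom).trans
    (e.symm.trans ((QuotientGroup.quotientMulEquivOfEq hc).trans QuotientGroup.quotientBot).symm)⟩

/-- In a local group the chosen subgroup of the Sylow 2-subgroup is normal, unless the 2-core is a
self-centralizing four-group. -/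
theorem local_char {S : Type u} [Group S] [Finite S] (hO : Ord L) (hsolv : Group.IsSolvable L)
    (hcore : Cfsg.pCore 2 L ≠ ⊥) (τ : S →* L) (hτ : Function.Injective τ) (P : Sylow 2 L)
    (hP : (P : Subgroup L) = τ.range) (hPn : ¬ (P : Subgroup L).Normal) :
    ((cS S).map τ).Normal ∨
      (Nat.card (Cfsg.pCore 2 L) = 4 ∧ (∀ d ∈ Cfsg.pCore 2 L, d * d = 1) ∧
        Subgroup.centralizer (Cfsg.pCore 2 L : Set L) = Cfsg.pCore 2 L) := by
  classical
  haveI : Fact (Nat.Prime 2) := ⟨Nat.prime_two⟩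
  haveI := pCore_normal (G := L) 2
  have h : Local L := ⟨hO, hsolv, hcore, fun Q hQ => hPn (by
    obtain ⟨g, hg⟩ := MulAction.exists_smul_eq L Q P
    haveI := hQ
    have hQQ : g • Q = Q := Sylow.smul_eq_iff_mem_normalizer.2 (by
      change g ∈ Subgroup.normalizer ((Q : Subgroup L) : Set L)
      rw [Subgroup.normalizer_eq_top]; trivial)
    rw [← hg, hQQ]
    exact hQ)⟩
  have hS : IsPGroup 2 S := by
    have := P.isPGroup'
    rw [hP] at this
    exact this.of_equiv (MonoidHom.ofInjective hτ).symm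
  set D := Cfsg.pCore 2 L with hD
  have hDP : D ≤ (P : Subgroup L) := by
    obtain ⟨Q, hQ⟩ := h.core_two.exists_le_sylow
    obtain ⟨g, hg⟩ := MulAction.exists_smul_eq L Q P
    intro d hd
    rw [← hg]
    refine ⟨g⁻¹ * d * g⁻¹⁻¹, hQ (Subgroup.Normal.conj_mem inferInstance d hd g⁻¹), ?_⟩
    show g * (g⁻¹ * d * g⁻¹⁻¹) * g⁻¹ = d
    group
  have hDr : D ≤ τ.range := hP ▸ hDP
  haveI : Nontrivial S := by
    rcases subsingleton_or_nontrivial S with hsub | hnt
    · exfalso
      refine hcore (eq_bot_iff.2 fun d hd => ?_)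
      obtain ⟨a, rfl⟩ := hDr hd
      rw [Subgroup.mem_bot, Subsingleton.elim a 1, map_one]
    · exact hnt
  -- a normal subgroup of `L` with centralizer containing `P` is trivial
  have hcen : ∀ X : Subgroup L, X.Normal → X ≠ ⊥ → IsPGroup 2 X →
      Subgroup.centralizer (X : Set L) ≤ D := fun X hX hne hXp => by
    haveI := hX
    exact normal_le_pCore (isPGroup_centralizer_subgroup hO.ipp hXp hne)
  -- conjugation preserves subgroups built from those inside the core
  by_cases hJ : ∀ A ∈ Cfsg.maxAbelianSubgroups S, A.map τ ≤ D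
  · left
    have hJn : ((Cfsg.thompsonSubgroupA S).map τ).Normal := by
      refine ⟨fun n hn g => ?_⟩
      suffices hle : (Cfsg.thompsonSubgroupA S).map τ ≤
          ((Cfsg.thompsonSubgroupA S).map τ).comap (MulAut.conj g).toMonoidHom from hle hn
      rw [Subgroup.map_le_iff_le_comap, Cfsg.thompsonSubgroupA, sSup_le_iff]
      intro A hA a ha
      set B := ((A.map τ).map (MulAut.conj g).toMonoidHom).comap τ with hB
      have hBmap : B.map τ = (A.map τ).map (MulAut.conj g).toMonoidHom := by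
        refine Subgroup.map_comap_eq_self ?_
        rintro _ ⟨w, hw, rfl⟩
        exact hDr (Subgroup.Normal.conj_mem inferInstance _ (hJ A hA hw) g)
      have hcard : Nat.card B = Nat.card A :=
        calc Nat.card B = Nat.card (B.map τ) := (Subgroup.card_map_of_injective hτ).symm
          _ = Nat.card ((A.map τ).map (MulAut.conj g).toMonoidHom) := by rw [hBmap]
          _ = Nat.card (A.map τ) := Subgroup.card_map_of_injective (MulAut.conj g).injective
          _ = Nat.card A := Subgroup.card_map_of_injective hτ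
      have hBm : B ∈ Cfsg.maxAbelianSubgroups S := by
        refine ⟨⟨⟨fun u v => Subtype.ext (hτ ?_)⟩⟩, fun C hC => (hA.2 C hC).trans hcard.ge⟩
        obtain ⟨_, ⟨u', hu', rfl⟩, hu⟩ := u.2
        obtain ⟨_, ⟨v', hv', rfl⟩, hv⟩ := v.2
        have e : u' * v' = v' * u' := congrArg Subtype.val (hA.1.is_comm.comm ⟨u', hu'⟩ ⟨v', hv'⟩)
        show τ ((u : S) * v) = τ ((v : S) * u)
        rw [map_mul, map_mul, ← hu, ← hv]
        simp only [← map_mul, e]
      obtain ⟨b, hb, hbe⟩ := hBmap.ge ⟨τ a, ⟨a, ha, rfl⟩, rfl⟩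
      exact ⟨b, (le_sSup hBm : B ≤ _) hb, hbe⟩
    unfold cS
    by_cases hbig : IsPGroup 2 S ∧ Big S
    swap
    · rw [dif_neg hbig]
      exact hJn
    rw [dif_pos hbig]
    set S₂ := (exists_pair S hbig.1 hbig.2).choose_spec.choose with hS₂
    obtain ⟨-, -, -, -, -, hle, hchar, -⟩ := (exists_pair S hbig.1 hbig.2).choose_spec.choose_spec
    rw [← hS₂] at hle hchar
    set C := Subgroup.centralizer (zjOf S : Set S) with hC
    set X := (zjOf S).map τ with hX
    have hXn : X.Normal := by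
      rw [hX, zjOf, Subgroup.map_inf _ _ _ hτ]
      haveI := hJn
      refine ⟨fun n hn g => ⟨hJn.conj_mem n hn.1 g, ?_⟩⟩
      obtain ⟨c, hc, rfl⟩ := hn.2
      obtain ⟨c', hc', e⟩ := hJn.conj_mem (τ c) hn.1 g
      refine ⟨c', Subgroup.mem_centralizer_iff.2 fun w hw => hτ ?_, e⟩
      rw [map_mul, map_mul, e]
      obtain ⟨w', hw', e'⟩ := hJn.conj_mem (τ w) ⟨w, hw, rfl⟩ g⁻¹
      have h1 : τ w' * τ c = τ c * τ w' := by
        rw [← map_mul, ← map_mul, Subgroup.mem_centralizer_iff.1 hc w' hw']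
      rw [e', inv_inv] at h1
      calc τ w * (g * τ c * g⁻¹) = g * (g⁻¹ * τ w * g * τ c) * g⁻¹ := by group
        _ = g * (τ c * (g⁻¹ * τ w * g)) * g⁻¹ := by rw [h1]
        _ = g * τ c * g⁻¹ * τ w := by group
    have hXne : X ≠ ⊥ := fun e => center_ne_bot hS (le_bot_iff.1 (center_le_zjOf.trans
      ((Subgroup.map_eq_bot_iff_of_injective _ hτ).1 e).le))
    have hXp : IsPGroup 2 X := (hS.to_subgroup _).map τ
    have hCmap : C.map τ = Subgroup.centralizer (X : Set L) := by
      refine le_antisymm ?_ fun w hw => ?_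
      · rintro _ ⟨c, hc, rfl⟩
        refine Subgroup.mem_centralizer_iff.2 ?_
        rintro _ ⟨z, hz, rfl⟩
        rw [← map_mul, ← map_mul, Subgroup.mem_centralizer_iff.1 hc z hz]
      · obtain ⟨c, rfl⟩ := hDr (hcen X hXn hXne hXp hw)
        refine ⟨c, Subgroup.mem_centralizer_iff.2 fun z hz => hτ ?_, rfl⟩
        rw [map_mul, map_mul]
        exact Subgroup.mem_centralizer_iff.1 hw _ ⟨z, hz, rfl⟩
    haveI : (C.map τ).Normal := by
      rw [hCmap]
      haveI := hXn
      infer_instance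
    haveI := hchar
    have hmap : S₂.map τ = ((S₂.subgroupOf C).map ((C.equivMapOfInjective τ hτ).toMonoidHom)).map
        (C.map τ).subtype := by
      rw [Subgroup.map_map]
      conv_lhs => rw [← Subgroup.map_subgroupOf_eq_of_le hle, Subgroup.map_map]
      rfl
    rw [hmap]
    haveI := Subgroup.characteristic_iff_map_eq.1 hchar
    haveI : ((S₂.subgroupOf C).map (C.equivMapOfInjective τ hτ).toMonoidHom).Characteristic := by
      refine Subgroup.characteristic_iff_map_eq.2 fun σ => ?_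
      set e := C.equivMapOfInjective τ hτ
      have := Subgroup.characteristic_iff_map_eq.1 hchar ((e.trans σ).trans e.symm)
      conv_rhs => rw [← this, Subgroup.map_map]
      rw [Subgroup.map_map]
      congr 1
      ext w
      simp
    infer_instance
  push Not at hJ
  obtain ⟨A, hA, hAD⟩ := hJ
  -- an offender
  haveI : IsMulCommutative (A.map τ) := ⟨⟨fun u v => Subtype.ext (by
    obtain ⟨u', hu', hu⟩ := u.2
    obtain ⟨v', hv', hv⟩ := v.2
    show (u : L) * v = v * u
    rw [← hu, ← hv, ← map_mul, ← map_mul]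
    exact congrArg τ (congrArg Subtype.val (hA.1.is_comm.comm ⟨u', hu'⟩ ⟨v', hv'⟩)))⟩⟩
  have hAp : IsPGroup 2 (A.map τ) := (hS.to_subgroup _).map τ
  have hXle : (A.map τ ⊓ D) ⊔ omegaCen D ≤ τ.range :=
    sup_le (inf_le_right.trans hDr) ((omegaCen_le D).trans hDr)
  have hmax : Nat.card ↥((A.map τ ⊓ D) ⊔ omegaCen D) ≤ Nat.card (A.map τ) := by
    set X := (A.map τ ⊓ D) ⊔ omegaCen D
    have hXc : X ≤ Subgroup.centralizer (X : Set L) := by
      have hV : omegaCen D ≤ Subgroup.centralizer ((A.map τ ⊓ D : Subgroup L) : Set L) := fun v hv =>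
        Subgroup.mem_centralizer_iff.2 fun w hw => Subgroup.mem_centralizer_iff.1 hv.2.1 w hw.2
      haveI := omegaCen_comm D
      refine sup_le ?_ ?_ <;> rw [Subgroup.le_centralizer_iff] <;> refine sup_le ?_ ?_
      · exact fun w hw => Subgroup.mem_centralizer_iff.2 fun w' hw' =>
          congrArg Subtype.val (mul_comm' (⟨w', hw'.1⟩ : A.map τ) ⟨w, hw.1⟩)
      · exact hV
      · exact Subgroup.le_centralizer_iff.1 hV
      · exact Subgroup.le_centralizer_iff_isMulCommutative.2 inferInstance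
    have hc : IsMulCommutative (X.comap τ) := ⟨⟨fun u v => Subtype.ext (hτ (by
      show τ ((u : S) * v) = τ ((v : S) * u)
      rw [map_mul, map_mul]
      exact Subgroup.mem_centralizer_iff.1 (hXc v.2) _ u.2))⟩⟩
    calc Nat.card X = Nat.card ((X.comap τ).map τ) := by rw [Subgroup.map_comap_eq_self hXle]
      _ = Nat.card (X.comap τ) := Subgroup.card_map_of_injective hτ
      _ ≤ Nat.card A := hA.2 _ hc
      _ = Nat.card (A.map τ) := (Subgroup.card_map_of_injective hτ).symm
  obtain ⟨hV4, h6, hna⟩ := h.offender hAp hAD hmax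
  by_cases hbig : IsPGroup 2 S ∧ Big S
  · left
    unfold cS
    rw [dif_pos hbig]
    obtain ⟨h1, -, -, -, h1c, -, -, hpair⟩ := (exists_pair S hbig.1 hbig.2).choose_spec.choose_spec
    have hidx : (P : Subgroup L).index = 3 := by
      obtain ⟨m, hm⟩ := IsPGroup.iff_card.1 h.core_two
      have hc : Nat.card L = 2 ^ (m + 1) * 3 := by
        rw [D.card_eq_card_quotient_mul_card_subgroup, h6, hm]
        ring
      have hPc : Nat.card (P : Subgroup L) = 2 ^ (m + 1) := by
        rw [P.card_eq_multiplicity, hc, Nat.factorization_mul (pow_ne_zero _ two_ne_zero) (by norm_num),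
          Finsupp.add_apply, Nat.factorization_pow]
        simp [Nat.prime_two.factorization_self, Nat.factorization_eq_zero_of_not_dvd (show ¬ 2 ∣ 3 by norm_num)]
      have := (P : Subgroup L).card_mul_index
      rw [hPc, hc] at this
      exact Nat.eq_of_mul_eq_mul_left (pow_pos two_pos _) this
    have hco : IsCoatom (P : Subgroup L) := by
      refine ⟨fun e => by rw [e, Subgroup.index_top] at hidx; omega, fun M hM => ?_⟩
      have hd := Subgroup.index_dvd_of_le hM.le
      rw [hidx] at hd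
      rcases (Nat.dvd_prime Nat.prime_three).1 hd with e | e
      · exact Subgroup.index_eq_one.1 e
      · exfalso
        have h1 := (P : Subgroup L).card_mul_index
        have h2 := M.card_mul_index
        rw [hidx] at h1
        rw [e, ← h1] at h2
        exact hM.ne (Subgroup.eq_of_le_of_card_ge hM.le (Nat.eq_of_mul_eq_mul_right (by norm_num) h2).le)
    rcases hpair L τ hτ ⟨P, hP⟩ h.cent_le
      ⟨P, ⟨hco, hP.ge⟩, fun M hM => by
        by_contra hne
        exact hM.1.1 (hco.2 M (lt_of_le_of_ne (hP ▸ hM.2) (Ne.symm hne)))⟩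
      ⟨D, inferInstance, ZMod 2, inferInstance, inferInstance, 1, le_rfl, by simp,
        psl_two_iso (L ⧸ D) h6 hna⟩ with hn1 | hn2
    · exfalso
      refine hPn ?_
      have hle : (P : Subgroup L) ≤ D := by
        refine le_trans ?_ (hcen _ hn1 (fun e => h1 ((Subgroup.map_eq_bot_iff_of_injective _ hτ).1 e))
          ((hS.to_subgroup _).map τ))
        rw [hP]
        rintro _ ⟨a, rfl⟩
        refine Subgroup.mem_centralizer_iff.2 ?_
        rintro _ ⟨z, hz, rfl⟩
        rw [← map_mul, ← map_mul, Subgroup.mem_center_iff.1 (h1c hz) a]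
      rw [le_antisymm hle hDP]
      infer_instance
    · exact hn2
  · right
    have hnb : ⁅frattini S, (⊤ : Subgroup S)⁆ = ⊥ := by
      by_contra hne
      exact hbig ⟨hS, Or.inr fun e => hne (le_bot_iff.1 (le_sup_left.trans e.le))⟩
    -- commutators of the core with an outside involution
    obtain ⟨r, x, hr, hr2, hxo, hx, hn, hcx⟩ := h.exists_data
    haveI := Fact.mk hr
    haveI := hn
    obtain ⟨i, hio, hiD⟩ := h.exists_invol
    set π := QuotientGroup.mk' D with hπ
    have hr3 : r = 3 := by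
      have hd := orderOf_dvd_natCard (π x)
      rw [hx, h6] at hd
      rcases hr.dvd_mul.1 (show r ∣ 2 * 3 from hd) with e | e
      · exact absurd ((Nat.prime_dvd_prime_iff_eq hr Nat.prime_two).1 e) hr2
      · exact (Nat.prime_dvd_prime_iff_eq hr Nat.prime_three).1 e
    subst hr3
    have hcomm : ∀ y : L, orderOf y = 2 → ∀ d ∈ D, ⁅d, y⁆ ∈ omegaCen D := by
      intro y hy d hd
      obtain ⟨Q, hQ⟩ := (IsPGroup.of_card (n := 1) (by rw [Nat.card_zpowers, hy, pow_one]) :
        IsPGroup 2 (Subgroup.zpowers y)).exists_le_sylow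
      obtain ⟨g, hg⟩ := MulAction.exists_smul_eq L Q P
      have hyP : g * y * g⁻¹ ∈ τ.range := by
        rw [← hP, ← hg]
        exact ⟨y, hQ (Subgroup.mem_zpowers y), rfl⟩
      have hdD : g * d * g⁻¹ ∈ D := Subgroup.Normal.conj_mem inferInstance d hd g
      obtain ⟨a, ha⟩ := hDr hdD
      obtain ⟨b, hb⟩ := hyP
      have hab : ∀ s : S, ⁅a, b⁆ * s = s * ⁅a, b⁆ := fun s => by
        have hmem : ⁅a, b⁆ ∈ frattini S := commutator_le_frattini_pgroup hS
          (Subgroup.commutator_mem_commutator (Subgroup.mem_top a) (Subgroup.mem_top b))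
        exact commutatorElement_eq_one_iff_mul_comm.1 (by
          rw [← Subgroup.mem_bot, ← hnb]
          exact Subgroup.commutator_mem_commutator hmem (Subgroup.mem_top s))
      have he : g * ⁅d, y⁆ * g⁻¹ = τ ⁅a, b⁆ := by
        simp only [commutatorElement_def, map_mul, map_inv, ha, hb]
        group
      have heD : ⁅d, y⁆ ∈ D := by
        rw [commutatorElement_def, show d * y * d⁻¹ * y⁻¹ = d * (y * d⁻¹ * y⁻¹) by group]
        exact mul_mem hd (Subgroup.Normal.conj_mem inferInstance _ (inv_mem hd) y)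
      have hcy : ∀ s : S, Commute (g * ⁅d, y⁆ * g⁻¹) (τ s) := fun s => by
        rw [he, Commute, SemiconjBy, ← map_mul, ← map_mul, hab s]
      refine ⟨heD, Subgroup.mem_centralizer_iff.2 fun w hw => ?_, ?_⟩
      · obtain ⟨s, hs⟩ := hDr (Subgroup.Normal.conj_mem inferInstance w hw g)
        have := (hcy s).eq
        rw [hs, show g * ⁅d, y⁆ * g⁻¹ * (g * w * g⁻¹) = g * (⁅d, y⁆ * w) * g⁻¹ by group,
          show g * w * g⁻¹ * (g * ⁅d, y⁆ * g⁻¹) = g * (w * ⁅d, y⁆) * g⁻¹ by group] at this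
        exact (mul_left_cancel (mul_right_cancel this)).symm
      · have h2 : ⁅d, y⁆ * y = y * ⁅d, y⁆ := by
          have := (hcy b).eq
          rw [hb, show g * ⁅d, y⁆ * g⁻¹ * (g * y * g⁻¹) = g * (⁅d, y⁆ * y) * g⁻¹ by group,
            show g * y * g⁻¹ * (g * ⁅d, y⁆ * g⁻¹) = g * (y * ⁅d, y⁆) * g⁻¹ by group] at this
          exact mul_left_cancel (mul_right_cancel this)
        have hyy : y * y = 1 := mul_self_of_orderOf_two hy
        have hyi : y⁻¹ = y := inv_eq_of_mul_eq_one_right hyy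
        have h3 : y * ⁅d, y⁆ * y = ⁅d, y⁆⁻¹ := by
          simp only [commutatorElement_def, mul_inv_rev, inv_inv, hyi]
          calc y * (d * y * d⁻¹ * y) * y = y * d * y * d⁻¹ * (y * y) := by group
            _ = y * (d * (y * d⁻¹)) := by rw [hyy]; group
        rw [← h2, mul_assoc, hyy, mul_one] at h3
        exact eq_inv_iff_mul_eq_one.1 h3
    -- an element of order three fixes the cosets of the involution part
    have hπi : orderOf (π i) = 2 := by
      rcases (Nat.dvd_prime Nat.prime_two).1 (hio ▸ orderOf_map_dvd π i) with e | e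
      · exact absurd ((QuotientGroup.eq_one_iff i).1 (orderOf_eq_one_iff.1 e)) hiD
      · exact e
    have hix := h.inverts (by norm_num) hx hcx hπi
    set z := x * i * x⁻¹ * i with hz
    have hzπ : π z = π x * π x := by
      have hii : (π i)⁻¹ = π i := inv_eq_of_mul_eq_one_right (mul_self_of_orderOf_two hπi)
      have hp : π i * (π x)⁻¹ * π i = π x := by
        have h' := congrArg (·⁻¹) hix
        simp only [mul_inv_rev, inv_inv] at h'
        rw [← mul_assoc] at h'
        calc π i * (π x)⁻¹ * π i = π i * (π x)⁻¹ * (π i)⁻¹ := by rw [hii]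
          _ = π x := h'
      rw [hz, map_mul, map_mul, map_mul, map_inv]
      calc π x * π i * (π x)⁻¹ * π i = π x * (π i * (π x)⁻¹ * π i) := by group
        _ = π x * π x := by rw [hp]
    have hzπo : orderOf (π z) = 3 := by
      rw [hzπ, ← pow_two, (show (orderOf (π x)).Coprime 2 by rw [hx]; norm_num).orderOf_pow, hx]
    have hzo : orderOf z = 3 := by
      have hd : 3 ∣ orderOf z := hzπo ▸ orderOf_map_dvd π z
      rcases hO z (fun e => by rw [e, orderOf_one] at hd; norm_num at hd) with ⟨k, hk⟩ | ⟨hp, -⟩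
      · rw [hk] at hd
        exact absurd (Nat.prime_three.dvd_of_dvd_pow hd) (by norm_num)
      · exact ((Nat.prime_dvd_prime_iff_eq Nat.prime_three hp).1 hd).symm
    set V := omegaCen D with hV
    haveI hVn : V.Normal := omegaCen_normal D
    have hzd : ∀ d ∈ D, z * d * z⁻¹ * d⁻¹ ∈ V := by
      intro d hd
      have hj : orderOf (x * i * x⁻¹) = 2 := by
        rw [show x * i * x⁻¹ = (MulAut.conj x).toMonoidHom i by simp,
          orderOf_injective _ (MulAut.conj x).injective, hio]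
      set d' := i * d * i⁻¹
      have hd' : d' ∈ D := Subgroup.Normal.conj_mem inferInstance d hd i
      rw [show z * d * z⁻¹ * d⁻¹ = ⁅d', x * i * x⁻¹⁆⁻¹ * ⁅d, i⁆⁻¹ by
        simp only [hz, d', commutatorElement_def]; group]
      exact mul_mem (inv_mem (hcomm _ hj d' hd')) (inv_mem (hcomm _ hio d hd))
    have hfix : ∀ d ∈ D, z * d * z⁻¹ = d → d = 1 := fun d hd e =>
      h.inf_cent Nat.prime_three (by norm_num) hzo hd (mul_inv_eq_iff_eq_mul.1 e).symm
    let ψ : V → V := fun w => ⟨z * w * z⁻¹ * (w : L)⁻¹, mul_mem (hVn.conj_mem _ w.2 z) (inv_mem w.2)⟩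
    have hψ : Function.Injective ψ := fun u v e => by
      have e' : z * (u : L) * z⁻¹ * (u : L)⁻¹ = z * v * z⁻¹ * (v : L)⁻¹ := congrArg Subtype.val e
      have hmem : (v : L)⁻¹ * u ∈ D := omegaCen_le D (mul_mem (inv_mem v.2) u.2)
      refine Subtype.ext (inv_mul_eq_one.1 (hfix _ hmem ?_)).symm
      haveI := omegaCen_comm D
      have hc : (v : L)⁻¹ * u = u * (v : L)⁻¹ :=
        congrArg Subtype.val (mul_comm' (⟨(v : L)⁻¹, inv_mem v.2⟩ : V) u)
      rw [mul_inv_eq_iff_eq_mul] at e'
      calc z * ((v : L)⁻¹ * u) * z⁻¹ = (z * v * z⁻¹)⁻¹ * (z * u * z⁻¹) := by group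
        _ = (z * v * z⁻¹)⁻¹ * (z * v * z⁻¹ * (v : L)⁻¹ * u) := by rw [← e']
        _ = (v : L)⁻¹ * u := by group
    have hDV : ∀ d ∈ D, d ∈ V := by
      intro d hd
      obtain ⟨w, hw⟩ := (Finite.injective_iff_surjective.1 hψ) ⟨_, hzd d hd⟩
      have e : z * (w : L) * z⁻¹ * (w : L)⁻¹ = z * d * z⁻¹ * d⁻¹ := congrArg Subtype.val hw
      have hfix' : z * ((w : L)⁻¹ * d) * z⁻¹ = (w : L)⁻¹ * d := by
        calc z * ((w : L)⁻¹ * d) * z⁻¹ = (z * w * z⁻¹ * (w : L)⁻¹ * w)⁻¹ * (z * d * z⁻¹ * d⁻¹) * d := by group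
          _ = (z * d * z⁻¹ * d⁻¹ * w)⁻¹ * (z * d * z⁻¹ * d⁻¹) * d := by rw [e]
          _ = (w : L)⁻¹ * d := by group
      have := hfix _ (mul_mem (inv_mem (omegaCen_le D w.2)) hd) hfix'
      rw [← inv_mul_eq_one.1 this]
      exact w.2
    have hDeq : D = V := le_antisymm hDV (omegaCen_le D)
    refine ⟨(congrArg (fun H : Subgroup L => Nat.card H) hDeq).trans hV4, fun d hd => (hDV d hd).2.2,
      le_antisymm h.cent_le fun d hd => (hDV d hd).2.1⟩

end

end Cfsg.Agent.Solv.EPPOSeven
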