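import Cfsg.Agent.Lib.Solv.EPPOSeven.Simple

/-!
Groups with all nonidentity elements of 2-power or prime order other than five, with three primes.
-/

set_option autoImplicit false
set_option linter.style.haveILetI false

namespace Cfsg.Agent.Solv.EPPOSeven

open Cfsg

universe u

local notation "L7" => Matrix.ProjectiveSpecialLinearGroup (Fin 2) (ZMod 7)

instance fact_seven : Fact (Nat.Prime 7) := ⟨by norm_num⟩

theorem card_L7 : Nat.card L7 = 168 := by
  have h := Classical.Dickson.card_psl (ZMod 7)
  rw [ZMod.card, show Nat.gcd 2 (7 - 1) = 2 from rfl] at h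
  omega

theorem simple_L7 : IsSimpleGroup L7 :=
  Matrix.ProjectiveSpecialLinearGroup.rank_two_simple (by rw [Nat.card_zmod]; norm_num)

theorem L7_not_solvable : ¬ Group.IsSolvable L7 := by
  intro h
  haveI := simple_L7
  have hc := IsSimpleGroup.comm_iff_isSolvable.2 h
  haveI : IsMulCommutative L7 := ⟨⟨hc⟩⟩
  letI : CommGroup L7 := { (inferInstance : Group L7) with mul_comm := hc }
  have hp : (Nat.card L7).Prime := IsSimpleGroup.prime_card
  rw [card_L7] at hp
  norm_num at hp

/-- A four-group of `PSL₂(7)`. -/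
theorem exists_four_L7 : ∃ a b : L7, a * a = 1 ∧ b * b = 1 ∧ a * b = b * a ∧ a ≠ 1 ∧ b ≠ 1 ∧ a ≠ b := by
  let A : Matrix.SpecialLinearGroup (Fin 2) (ZMod 7) := ⟨!![0, 1; -1, 0], by decide⟩
  let B : Matrix.SpecialLinearGroup (Fin 2) (ZMod 7) := ⟨!![2, 3; 3, -2], by decide⟩
  have key : ∀ X Y : Matrix.SpecialLinearGroup (Fin 2) (ZMod 7),
      (QuotientGroup.mk X : L7) = QuotientGroup.mk Y ↔
        ∃ c : ZMod 7, c ^ 2 = 1 ∧ Matrix.scalar (Fin 2) c = ((X⁻¹ * Y : Matrix.SpecialLinearGroup (Fin 2) (ZMod 7)) : Matrix (Fin 2) (Fin 2) (ZMod 7)) := fun X Y => by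
    rw [QuotientGroup.eq, Matrix.SpecialLinearGroup.mem_center_iff, Fintype.card_fin]
  refine ⟨QuotientGroup.mk A, QuotientGroup.mk B, ?_, ?_, ?_, ?_, ?_, ?_⟩
  · rw [← QuotientGroup.mk_mul, ← QuotientGroup.mk_one, key]; decide
  · rw [← QuotientGroup.mk_mul, ← QuotientGroup.mk_one, key]; decide
  · rw [← QuotientGroup.mk_mul, ← QuotientGroup.mk_mul, key]; decide
  · rw [← QuotientGroup.mk_one, Ne, key]; decide
  · rw [← QuotientGroup.mk_one, Ne, key]; decide
  · rw [Ne, key]; decide

variable {G : Type u} [Group G] [Finite G]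

/-- In a simple group of order 168 the normalizers of Sylow subgroups for 7 and 3 have orders 21 and 6. -/
theorem sylow_facts {M : Type u} [Group M] [Finite M] [IsSimpleGroup M] (hO : Ord M) (hc : Nat.card M = 168) :
    (∀ Q : Sylow 7 M, Nat.card (Q : Subgroup M) = 7 ∧
      Nat.card (Subgroup.normalizer ((Q : Subgroup M) : Set M)) = 21) ∧
    (∀ P : Sylow 3 M, Nat.card (P : Subgroup M) = 3 ∧
      Nat.card (Subgroup.normalizer ((P : Subgroup M) : Set M)) = 6) := by
  haveI : Fact (Nat.Prime 3) := ⟨Nat.prime_three⟩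
  have hnn : ∀ (p : ℕ) (P : Sylow p M), Nat.card (P : Subgroup M) ≠ 1 → Nat.card (P : Subgroup M) ≠ 168 →
      Subgroup.normalizer ((P : Subgroup M) : Set M) ≠ ⊤ := by
    intro p P h1 h2 e
    haveI : (P : Subgroup M).Normal := Subgroup.normalizer_eq_top_iff.1 e
    rcases IsSimpleGroup.eq_bot_or_eq_top_of_normal (P : Subgroup M) inferInstance with h | h
    · exact h1 (by rw [h, Subgroup.card_bot])
    · exact h2 (by rw [h, Subgroup.card_top, hc])
  refine ⟨fun Q => ?_, fun P => ?_⟩
  · have hQ : Nat.card (Q : Subgroup M) = 7 := by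
      rw [Q.card_eq_multiplicity, hc, show (168 : ℕ) = 7 ^ 1 * 24 from rfl,
        Nat.factorization_mul (by norm_num) (by norm_num), Finsupp.add_apply, Nat.factorization_pow]
      simp [(show Nat.Prime 7 by norm_num).factorization_self,
        Nat.factorization_eq_zero_of_not_dvd (show ¬ 7 ∣ 24 by norm_num)]
    refine ⟨hQ, ?_⟩
    set N := Subgroup.normalizer ((Q : Subgroup M) : Set M) with hN
    have h1 := N.card_mul_index
    have hn : Nat.card (Sylow 7 M) = N.index := Q.card_eq_index_normalizer
    have hmod := card_sylow_modEq_one 7 M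
    rw [hn] at hmod
    have h7 : 7 ∣ Nat.card N := hQ ▸ Subgroup.card_dvd_of_le Subgroup.le_normalizer
    have hne : N.index ≠ 1 := fun e => hnn 7 Q (by omega) (by omega) (Subgroup.index_eq_one.1 e)
    rw [hc] at h1
    obtain ⟨m, hm⟩ := h7
    rw [hm] at h1 ⊢
    have hd : N.index ∣ 24 := ⟨m, by nlinarith⟩
    have hle := Nat.le_of_dvd (by norm_num) hd
    unfold Nat.ModEq at hmod
    interval_cases h : N.index <;> simp_all
    all_goals omega
  · have hP : Nat.card (P : Subgroup M) = 3 := by
      rw [P.card_eq_multiplicity, hc, show (168 : ℕ) = 3 ^ 1 * 56 from rfl,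
        Nat.factorization_mul (by norm_num) (by norm_num), Finsupp.add_apply, Nat.factorization_pow]
      simp [Nat.prime_three.factorization_self,
        Nat.factorization_eq_zero_of_not_dvd (show ¬ 3 ∣ 56 by norm_num)]
    refine ⟨hP, ?_⟩
    set N := Subgroup.normalizer ((P : Subgroup M) : Set M) with hN
    have h1 := N.card_mul_index
    have hn : Nat.card (Sylow 3 M) = N.index := P.card_eq_index_normalizer
    have hmod := card_sylow_modEq_one 3 M
    rw [hn] at hmod
    -- the centralizer is the Sylow subgroup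
    have hne : (P : Subgroup M) ≠ ⊥ := fun e => by rw [e, Subgroup.card_bot] at hP; omega
    have hC3 := isPGroup_centralizer_subgroup hO.ipp P.isPGroup' hne
    haveI : IsCyclic (P : Subgroup M) := isCyclic_of_prime_card hP
    haveI : IsMulCommutative (P : Subgroup M) := IsCyclic.isMulCommutative
    have hCP : Subgroup.centralizer ((P : Subgroup M) : Set M) = (P : Subgroup M) :=
      P.is_maximal' hC3 (Subgroup.le_centralizer_iff_isMulCommutative.2 inferInstance)
    have hN6 : Nat.card N ∣ 6 := by
      let χ : N →* MulAut (P : Subgroup M) := (P : Subgroup M).normalizerMonoidHom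
      rw [← χ.ker.card_mul_index, Subgroup.index_ker, show χ.ker = _ from Subgroup.normalizerMonoidHom_ker _,
        hCP, Nat.card_congr (Subgroup.subgroupOfEquivOfLe Subgroup.le_normalizer).toEquiv, hP]
      have hd := Subgroup.card_subgroup_dvd_card χ.range
      haveI : Fact (Nat.card (P : Subgroup M)).Prime := ⟨hP.symm ▸ Nat.prime_three⟩
      rw [Nat.card_congr (IsCyclic.mulAutMulEquiv (P : Subgroup M)).toEquiv,
        Nat.card_eq_fintype_card (α := (ZMod (Nat.card (P : Subgroup M)))ˣ), ZMod.card_units, hP] at hd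
      exact Nat.mul_dvd_mul_left 3 hd
    have h3 : 3 ∣ Nat.card N := hP ▸ Subgroup.card_dvd_of_le Subgroup.le_normalizer
    rw [hc] at h1
    unfold Nat.ModEq at hmod
    have hle := Nat.le_of_dvd (by norm_num) hN6
    interval_cases h : Nat.card N <;> omega

/-- The main theorem. -/
theorem iso_L7 : ∀ (n : ℕ) {G : Type u} [Group G] [Finite G], Nat.card G = n → Ord G → ¬ Group.IsSolvable G →
    Nonempty (G ≃* L7) := by
  intro n
  induction n using Nat.strong_induction_on with
  | _ n ih =>
  intro G _ _ hn hO hns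
  classical
  haveI : Fact (Nat.Prime 2) := ⟨Nat.prime_two⟩
  haveI : Fact (Nat.Prime 3) := ⟨Nat.prime_three⟩
  have hloc : ∀ X : Subgroup G, X ≠ ⊥ → IsPGroup 2 X → Subgroup.normalizer (X : Set G) ≠ ⊤ →
      Group.IsSolvable (Subgroup.normalizer (X : Set G)) := by
    intro X hX hX2 htop
    by_contra hNs
    set N := Subgroup.normalizer (X : Set G)
    have hlt : Nat.card N < n := hn ▸ lt_of_le_of_ne (Subgroup.card_le_card_group N)
      fun e => htop (Subgroup.eq_top_of_card_eq N e)
    obtain ⟨e⟩ := ih _ hlt rfl (hO.subgroup N) hNs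
    haveI : Nontrivial N := e.toEquiv.nontrivial
    haveI : IsSimpleGroup N := haveI := simple_L7; IsSimpleGroup.isSimpleGroup_of_surjective e.symm.toMonoidHom e.symm.surjective
    have hXN : X ≤ N := Subgroup.le_normalizer
    have hXn : (X.subgroupOf N).Normal := ⟨fun w hw g => (Subgroup.mem_normalizer_iff.1 g.2 w).1 hw⟩
    rcases IsSimpleGroup.eq_bot_or_eq_top_of_normal _ hXn with h | h
    · exact hX (by rw [← Subgroup.map_subgroupOf_eq_of_le hXN, h, Subgroup.map_bot])
    · have hN2 : IsPGroup 2 N := hX2.to_le (Subgroup.subgroupOf_eq_top.1 h)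
      haveI := hN2.isNilpotent
      exact hNs inferInstance
  haveI : Nontrivial G := by
    rcases subsingleton_or_nontrivial G with h | h
    · exact absurd (Group.isSolvable_of_comm fun a b => Subsingleton.elim _ _) hns
    · exact h
  obtain ⟨M, hMn, hM1, hMmin⟩ := exists_minimal_normal (G := G)
  haveI := hMn
  by_cases hMs : Group.IsSolvable M
  · -- an abelian minimal normal subgroup
    exfalso
    obtain ⟨hMc, p, hp, hMexp, hMp⟩ := minimal_normal_elementaryAbelian M hMs hM1 hMmin
    haveI := Fact.mk hp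
    haveI := hMc
    have hQns : ¬ Group.IsSolvable (G ⧸ M) := fun h => hns (by
      haveI := hMs
      haveI := h
      exact Group.isSolvable_of_ker_le_range M.subtype (QuotientGroup.mk' M)
        (by rw [QuotientGroup.ker_mk', Subgroup.range_subtype]))
    have hlt : Nat.card (G ⧸ M) < n := by
      rw [← hn, M.card_eq_card_quotient_mul_card_subgroup]
      exact lt_mul_of_one_lt_right Nat.card_pos ((Subgroup.one_lt_card_iff_ne_bot M).2 hM1)
    obtain ⟨e⟩ := ih _ hlt rfl (hO.quotient M) hQns
    set π := QuotientGroup.mk' M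
    obtain ⟨k, hk⟩ := IsPGroup.iff_card.1 hMp
    have hk0 : k ≠ 0 := fun h => hM1 (Subgroup.card_eq_one.1 (by rw [hk, h, pow_zero]))
    by_cases hp2 : p = 2
    · subst hp2
      haveI : IsSimpleGroup (G ⧸ M) :=
        haveI := simple_L7; haveI : Nontrivial (G ⧸ M) := e.toEquiv.nontrivial
        IsSimpleGroup.isSimpleGroup_of_surjective e.symm.toMonoidHom e.symm.surjective
      obtain ⟨Q⟩ : Nonempty (Sylow 7 (G ⧸ M)) := inferInstance
      have h21 := ((sylow_facts (hO.quotient M) (by rw [Nat.card_congr e.toEquiv, card_L7])).1 Q).2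
      set K := Subgroup.normalizer ((Q : Subgroup (G ⧸ M)) : Set (G ⧸ M))
      haveI : Group.IsSolvable K := Char.isSolvable_of_two_primes Nat.prime_three (by norm_num : Nat.Prime 7)
        (Nat.card K) rfl fun r hr hd => by
          rw [h21, show (21 : ℕ) = 3 * 7 from rfl] at hd
          rcases hr.dvd_mul.1 hd with h | h
          · exact Or.inl ((Nat.prime_dvd_prime_iff_eq hr Nat.prime_three).1 h)
          · exact Or.inr ((Nat.prime_dvd_prime_iff_eq hr (by norm_num)).1 h)
      set H := K.comap π
      let f : H →* K := π.subgroupComap K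
      have hHs : Group.IsSolvable H := by
        haveI := hMs
        have hker : Group.IsSolvable f.ker := Group.isSolvable_of_isSolvable_injective
          (f := MonoidHom.mk' (fun x : f.ker => (⟨((x : H) : G), (QuotientGroup.eq_one_iff _).1
            (congrArg Subtype.val (MonoidHom.mem_ker.1 x.2))⟩ : M)) fun a b => rfl)
          (fun a b e => Subtype.ext (Subtype.ext (congrArg (fun r : M => (r : G)) e)))
        haveI := hker
        exact Group.isSolvable_of_ker_le_range f.ker.subtype f (by rw [Subgroup.range_subtype])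
      have h3p := EPPO.solvable_primes_le_two hO.ipp H hHs
      have hcH : Nat.card H = 21 * 2 ^ k := by rw [card_comap_mk', h21, hk]
      have hsub : ({2, 3, 7} : Finset ℕ) ⊆ (Nat.card H).primeFactors := by
        intro a ha
        simp only [Finset.mem_insert, Finset.mem_singleton] at ha
        refine Nat.mem_primeFactors.2 ?_
        rw [hcH]
        rcases ha with rfl | rfl | rfl
        · exact ⟨Nat.prime_two, dvd_mul_of_dvd_right (dvd_pow_self 2 hk0) _, by positivity⟩
        · exact ⟨Nat.prime_three, dvd_mul_of_dvd_left (by norm_num) _, by positivity⟩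
        · exact ⟨by norm_num, dvd_mul_of_dvd_left (by norm_num) _, by positivity⟩
      have := Finset.card_le_card hsub
      have h3 : ({2, 3, 7} : Finset ℕ).card = 3 := rfl
      omega
    · obtain ⟨a₀, b₀, ha2, hb2, hab, ha1, hb1, hne⟩ := exists_four_L7
      set a := e.symm a₀
      set b := e.symm b₀
      have hca : a * a = 1 := by rw [← map_mul, ha2, map_one]
      have hcb : b * b = 1 := by rw [← map_mul, hb2, map_one]
      have hc : a * b = b * a := by rw [← map_mul, ← map_mul, hab]
      let E : Subgroup (G ⧸ M) :=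
        { carrier := {x | x = 1 ∨ x = a ∨ x = b ∨ x = a * b}
          one_mem' := Or.inl rfl
          mul_mem' := by
            have e1 : a * (a * b) = b := by rw [← mul_assoc, hca, one_mul]
            have e2 : b * (a * b) = a := by rw [hc, ← mul_assoc, hcb, one_mul]
            have e3 : a * b * a = b := by rw [hc, mul_assoc, hca, mul_one]
            have e4 : a * b * b = a := by rw [mul_assoc, hcb, mul_one]
            have e5 : a * b * (a * b) = 1 := by rw [mul_assoc a b, e2, hca]
            rintro x y (rfl | rfl | rfl | rfl) (rfl | rfl | rfl | rfl) <;>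
              simp only [Set.mem_setOf_eq, one_mul, mul_one, hca, hcb, e1, e2, e3, e4, e5, ← hc, true_or, or_true]
          inv_mem' := by
            rintro x (rfl | rfl | rfl | rfl)
            · exact Or.inl inv_one
            · exact Or.inr (Or.inl (inv_eq_of_mul_eq_one_right hca))
            · exact Or.inr (Or.inr (Or.inl (inv_eq_of_mul_eq_one_right hcb)))
            · refine Or.inr (Or.inr (Or.inr ?_))
              rw [mul_inv_rev, inv_eq_of_mul_eq_one_right hca, inv_eq_of_mul_eq_one_right hcb, hc] }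
      have hE4 : Nat.card E = 4 := by
        have hs : (E : Set (G ⧸ M)) = {1, a, b, a * b} := rfl
        have ha' : a ≠ 1 := fun h => ha1 (e.symm.injective (h.trans (map_one _).symm))
        have hb' : b ≠ 1 := fun h => hb1 (e.symm.injective (h.trans (map_one _).symm))
        have hne' : a ≠ b := fun h => hne (e.symm.injective h)
        have hab1 : a * b ≠ 1 := fun h => hne' ((eq_inv_of_mul_eq_one_left h).trans (inv_eq_of_mul_eq_one_right hcb))
        rw [show Nat.card E = (E : Set (G ⧸ M)).ncard from Nat.card_coe_set_eq _, hs,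
          Set.ncard_insert_of_notMem (by simp [ha'.symm, hb'.symm, hab1.symm]) (Set.toFinite _),
          Set.ncard_insert_of_notMem (by simp [hne', hb']) (Set.toFinite _),
          Set.ncard_pair (by simpa using ha')]
      have hEsq : ∀ x ∈ E, x * x = 1 := by
        rintro x (rfl | rfl | rfl | rfl)
        · exact one_mul 1
        · exact hca
        · exact hcb
        · rw [mul_assoc, ← mul_assoc b a b, ← hc, mul_assoc a b b, hcb, mul_one, hca]
      set H := E.comap π
      obtain ⟨P⟩ : Nonempty (Sylow 2 H) := inferInstance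
      set Pg := (P : Subgroup H).map H.subtype
      have hcH : Nat.card H = 4 * p ^ k := by rw [card_comap_mk', hE4, hk]
      have hPc : Nat.card Pg = 4 := by
        rw [card_map_subtype, P.card_eq_multiplicity, hcH, show (4 : ℕ) = 2 ^ 2 from rfl,
          Nat.factorization_mul (by norm_num) (pow_ne_zero _ hp.ne_zero), Finsupp.add_apply,
          Nat.factorization_pow, Nat.factorization_pow]
        simp [Nat.prime_two.factorization_self, Nat.factorization_eq_zero_of_not_dvd
          (fun hd => hp2 ((Nat.prime_dvd_prime_iff_eq Nat.prime_two hp).1 hd).symm)]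
      have hdis := IsPGroup.disjoint_of_ne 2 p (Ne.symm hp2) Pg M (P.isPGroup'.map _) hMp
      have hsq : ∀ x ∈ Pg, x ^ 2 = 1 := by
        intro x hx
        refine Subgroup.mem_bot.1 (hdis.le_bot ⟨pow_mem hx 2, (QuotientGroup.eq_one_iff _).1 ?_⟩)
        show π (x ^ 2) = 1
        rw [map_pow, pow_two]
        exact hEsq _ (Subgroup.map_subtype_le _ hx : x ∈ H)
      have h := EPPO.elementary_fpf_card_le (q := 2) (V := M) hM1 hsq
        (by rw [Subgroup.normalizer_eq_top]; exact le_top) fun x hx hx1 => by
          rw [eq_bot_iff]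
          rintro v ⟨hv, hvx⟩
          rw [Subgroup.mem_bot]
          by_contra hv1
          exact hp2 (EPPO.prime_eq_of_commute hO.ipp hp Nat.prime_two (orderOf_eq_prime (hMexp v hv) hv1)
            (orderOf_eq_prime (hsq x hx) hx1) (Subgroup.mem_centralizer_singleton_iff.1 hvx))
      omega
  by_cases hMtop : M = ⊤
  · -- simple
    subst hMtop
    haveI : IsSimpleGroup G := ⟨fun H hH => hMmin H hH le_top⟩
    refine simple_case hns hO fun X hX hX2 => hloc X hX hX2 fun e => ?_
    haveI : X.Normal := Subgroup.normalizer_eq_top_iff.1 e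
    rcases IsSimpleGroup.eq_bot_or_eq_top_of_normal X inferInstance with h | h
    · exact hX h
    · subst h
      haveI := hX2.isNilpotent
      exact hns (Group.isSolvable_of_surjective (f := (⊤ : Subgroup G).subtype) fun g => ⟨⟨g, trivial⟩, rfl⟩)
  exfalso
  have hlt : Nat.card M < n := hn ▸ lt_of_le_of_ne (Subgroup.card_le_card_group M)
    fun e => hMtop (Subgroup.eq_top_of_card_eq M e)
  obtain ⟨e⟩ := ih _ hlt rfl (hO.subgroup M) hMs
  haveI : Nontrivial M := e.toEquiv.nontrivial
  haveI : IsSimpleGroup M := haveI := simple_L7; IsSimpleGroup.isSimpleGroup_of_surjective e.symm.toMonoidHom e.symm.surjective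
  obtain ⟨h7, h3⟩ := sylow_facts (hO.subgroup M) (show Nat.card M = 168 by rw [Nat.card_congr e.toEquiv, card_L7])
  -- the index through a Frattini argument
  have frat : ∀ (q a : ℕ) [Fact q.Prime] (Q : Sylow q M), Nat.card (Q : Subgroup M) = q →
      Nat.card (Subgroup.normalizer ((Q : Subgroup M) : Set M)) = a →
      ∃ b : ℕ, a * M.index ∣ (q - 1) * q ^ b := by
    intro q a _ Q hQc hNc
    set R := (Q : Subgroup M).map M.subtype with hR
    set N := Subgroup.normalizer (R : Set G) with hN
    have htop : N ⊔ M = ⊤ := Sylow.normalizer_sup_eq_top Q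
    have hNM : Nat.card ↥(N ⊓ M) = a := by
      rw [← hNc]
      refine Nat.card_congr
        { toFun := fun x => ⟨⟨x.1, x.2.2⟩, ?_⟩
          invFun := fun y => ⟨y.1.1, ?_, y.1.2⟩
          left_inv := fun x => rfl
          right_inv := fun y => rfl }
      · refine Subgroup.mem_normalizer_iff.2 fun w => ?_
        have hw := Subgroup.mem_normalizer_iff.1 x.2.1 (w : G)
        simp only [hR, Subgroup.mem_map, Subgroup.coe_subtype] at hw
        constructor
        · intro h'
          obtain ⟨v, hv, e⟩ := hw.1 ⟨w, h', rfl⟩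
          rwa [show (⟨x.1, x.2.2⟩ : M) * w * (⟨x.1, x.2.2⟩ : M)⁻¹ = v from Subtype.ext e.symm]
        · intro h'
          obtain ⟨v, hv, e⟩ := hw.2 ⟨_, h', rfl⟩
          rwa [← Subtype.ext e]
      · refine Subgroup.mem_normalizer_iff.2 fun w => ?_
        have key := Subgroup.mem_normalizer_iff.1 y.2
        constructor
        · rintro ⟨v, hv, rfl⟩
          exact ⟨_, (key v).1 hv, rfl⟩
        · rintro ⟨v, hv, e⟩
          refine ⟨(y.1)⁻¹ * v * y.1, (key _).2 ?_, ?_⟩
          · rwa [show (y.1 : M) * ((y.1)⁻¹ * v * y.1) * (y.1)⁻¹ = v by group]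
          · show (y.1 : G)⁻¹ * (v : G) * y.1 = w
            rw [show ((v : G)) = (y.1 : G) * w * (y.1 : G)⁻¹ from e]
            group
    have hNcard : Nat.card N = a * M.index := by
      have h1 := (M.subgroupOf N).card_mul_index
      have h2 : Nat.card (M.subgroupOf N) = a := by
        rw [← hNM, ← Subgroup.inf_subgroupOf_left M N]
        exact Nat.card_congr (Subgroup.subgroupOfEquivOfLe inf_le_left).toEquiv
      have h4 : (M.subgroupOf N).index = M.index := by
        show M.relIndex N = _
        rw [← Subgroup.relIndex_sup_right N M, htop, Subgroup.relIndex_top_right]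
      rw [← h1, h2, h4]
    have hRc : Nat.card R = q := by rw [hR, card_map_subtype, hQc]
    have hRp : IsPGroup q R := IsPGroup.of_card (n := 1) (by rw [hRc, pow_one])
    have hRne : R ≠ ⊥ := fun e => by
      rw [e, Subgroup.card_bot] at hRc; exact (Fact.out : q.Prime).ne_one hRc.symm
    obtain ⟨b, hb⟩ := IsPGroup.iff_card.1
      ((isPGroup_centralizer_subgroup hO.ipp hRp hRne).comap_subtype (K := N))
    refine ⟨b, ?_⟩
    haveI : IsCyclic R := isCyclic_of_prime_card hRc
    let χ : N →* MulAut R := R.normalizerMonoidHom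
    have hd := Subgroup.card_subgroup_dvd_card χ.range
    haveI : Fact (Nat.card R).Prime := ⟨hRc.symm ▸ Fact.out⟩
    rw [Nat.card_congr (IsCyclic.mulAutMulEquiv R).toEquiv,
      Nat.card_eq_fintype_card (α := (ZMod (Nat.card R))ˣ), ZMod.card_units, hRc] at hd
    rw [← hNcard, ← χ.ker.card_mul_index, Subgroup.index_ker,
      show χ.ker = _ from Subgroup.normalizerMonoidHom_ker _, mul_comm]
    exact Nat.mul_dvd_mul hd hb.dvd
  obtain ⟨Q⟩ : Nonempty (Sylow 7 M) := inferInstance
  obtain ⟨P⟩ : Nonempty (Sylow 3 M) := inferInstance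
  obtain ⟨b, hb⟩ := frat 7 21 Q (h7 Q).1 (h7 Q).2
  obtain ⟨c, hc⟩ := frat 3 6 P (h3 P).1 (h3 P).2
  have hi1 : M.index ≠ 1 := fun h => hMtop (Subgroup.index_eq_one.1 h)
  obtain ⟨s, hs, hsi⟩ := Nat.exists_prime_and_dvd hi1
  have hs3 : s = 3 := by
    have h := (dvd_mul_of_dvd_right hsi 6).trans hc
    rcases hs.dvd_mul.1 h with h' | h'
    · exfalso
      have : s = 2 := (Nat.prime_dvd_prime_iff_eq hs Nat.prime_two).1 (by simpa using h')
      subst this
      obtain ⟨t, ht⟩ := hsi
      have h4 : 2 * 2 ∣ 2 * 3 ^ c := dvd_trans ⟨3 * t, by rw [ht]; ring⟩ hc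
      have := Nat.prime_two.dvd_of_dvd_pow (Nat.dvd_of_mul_dvd_mul_left (by norm_num) h4)
      omega
    · exact (Nat.prime_dvd_prime_iff_eq hs Nat.prime_three).1 (hs.dvd_of_dvd_pow h')
  subst hs3
  obtain ⟨t, ht⟩ := hsi
  have h9 : 9 ∣ (7 - 1) * 7 ^ b := dvd_trans ⟨7 * t, by rw [ht]; ring⟩ hb
  have h9' : 3 ∣ 2 * 7 ^ b := by
    have : 3 * 3 ∣ 3 * (2 * 7 ^ b) := by
      rw [show 3 * (2 * 7 ^ b) = (7 - 1) * 7 ^ b by norm_num; ring]; exact h9
    exact Nat.dvd_of_mul_dvd_mul_left (by norm_num) this
  rcases Nat.prime_three.dvd_mul.1 h9' with h' | h'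
  · omega
  · have := (Nat.prime_dvd_prime_iff_eq Nat.prime_three (by norm_num : Nat.Prime 7)).1
      (Nat.prime_three.dvd_of_dvd_pow h')
    omega

end Cfsg.Agent.Solv.EPPOSeven
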