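import Cfsg.Agent.Lib.Solv.EPPOSeven.Top

/-!
Offenders on the centre of the 2-core of a local group.
-/

set_option autoImplicit false
set_option linter.style.haveILetI false
set_option linter.unusedSectionVars false

namespace Cfsg.Agent.Solv.EPPOSeven

open Cfsg

universe u

variable {L : Type u} [Group L] [Finite L] (h : Local L) [(Cfsg.pCore 2 L).Normal]

include h

omit h in
theorem mul_self_of_orderOf_two {H : Type*} [Group H] {g : H} (hg : orderOf g = 2) : g * g = 1 := by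
  have := pow_orderOf_eq_one g
  rwa [hg, pow_two] at this

section

variable {r : ℕ} [Fact r.Prime] {x : L} (hr2 : r ≠ 2)
  (hx : orderOf (QuotientGroup.mk' (Cfsg.pCore 2 L) x) = r)
  [hn : (Subgroup.zpowers (QuotientGroup.mk' (Cfsg.pCore 2 L) x)).Normal]
  (hcen : Subgroup.centralizer ({QuotientGroup.mk' (Cfsg.pCore 2 L) x} : Set (L ⧸ Cfsg.pCore 2 L)) =
    Subgroup.zpowers (QuotientGroup.mk' (Cfsg.pCore 2 L) x))

include hr2 hx hn hcen

/-- Conjugation on the normal subgroup of prime order. -/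
theorem Local.ker_conj :
    (MulAut.conjNormal : L ⧸ (Cfsg.pCore 2 L) →* MulAut (Subgroup.zpowers ((QuotientGroup.mk' (Cfsg.pCore 2 L)) x))).ker = Subgroup.zpowers ((QuotientGroup.mk' (Cfsg.pCore 2 L)) x) := by
  have hself : (QuotientGroup.mk' (Cfsg.pCore 2 L)) x ∈ Subgroup.zpowers ((QuotientGroup.mk' (Cfsg.pCore 2 L)) x) := Subgroup.mem_zpowers _
  refine le_antisymm (fun q hq => ?_) (fun q hq => ?_)
  · rw [← hcen, Subgroup.mem_centralizer_singleton_iff]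
    have := congrArg Subtype.val (DFunLike.congr_fun (MonoidHom.mem_ker.1 hq) ⟨(QuotientGroup.mk' (Cfsg.pCore 2 L)) x, hself⟩)
    simp only [MulAut.conjNormal_apply, MulAut.one_apply] at this
    exact mul_inv_eq_iff_eq_mul.1 this
  · refine MonoidHom.mem_ker.2 (MulEquiv.ext fun w => Subtype.ext ?_)
    obtain ⟨a, ha⟩ := Subgroup.mem_zpowers_iff.1 hq
    obtain ⟨b, hb⟩ := Subgroup.mem_zpowers_iff.1 w.2
    simp only [MulAut.conjNormal_apply, MulAut.one_apply]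
    rw [← ha, ← hb, mul_inv_eq_iff_eq_mul, ← zpow_add, ← zpow_add, add_comm]

theorem Local.card_mulAut :
    IsCyclic (MulAut (Subgroup.zpowers ((QuotientGroup.mk' (Cfsg.pCore 2 L)) x))) ∧ Nat.card (MulAut (Subgroup.zpowers ((QuotientGroup.mk' (Cfsg.pCore 2 L)) x))) = r - 1 := by
  have hc : Nat.card (Subgroup.zpowers ((QuotientGroup.mk' (Cfsg.pCore 2 L)) x)) = r := by rw [Nat.card_zpowers, hx]
  haveI : Fact (Nat.card (Subgroup.zpowers ((QuotientGroup.mk' (Cfsg.pCore 2 L)) x))).Prime := ⟨hc.symm ▸ Fact.out⟩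
  haveI : IsCyclic (Subgroup.zpowers ((QuotientGroup.mk' (Cfsg.pCore 2 L)) x)) := Subgroup.isCyclic_zpowers _
  let e := IsCyclic.mulAutMulEquiv (Subgroup.zpowers ((QuotientGroup.mk' (Cfsg.pCore 2 L)) x))
  refine ⟨isCyclic_of_surjective e.symm e.symm.surjective, ?_⟩
  rw [Nat.card_congr e.toEquiv, Nat.card_eq_fintype_card, ZMod.card_units, hc]

/-- 2-subgroups of the top are cyclic of order dividing `r - 1`. -/
theorem Local.two_image {A : Subgroup L} (hA : IsPGroup 2 A) :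
    IsCyclic (A.map (QuotientGroup.mk' (Cfsg.pCore 2 L))) ∧ Nat.card (A.map (QuotientGroup.mk' (Cfsg.pCore 2 L))) ∣ r - 1 := by
  haveI : Fact (Nat.Prime 2) := ⟨Nat.prime_two⟩
  obtain ⟨hcyc, hcard⟩ := h.card_mulAut hr2 hx hcen
  haveI := hcyc
  let f : A.map (QuotientGroup.mk' (Cfsg.pCore 2 L)) →* MulAut (Subgroup.zpowers ((QuotientGroup.mk' (Cfsg.pCore 2 L)) x)) :=
    (MulAut.conjNormal : L ⧸ (Cfsg.pCore 2 L) →* MulAut (Subgroup.zpowers ((QuotientGroup.mk' (Cfsg.pCore 2 L)) x))).comp (A.map (QuotientGroup.mk' (Cfsg.pCore 2 L))).subtype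
  have hf : Function.Injective f := by
    rw [← MonoidHom.ker_eq_bot_iff, eq_bot_iff]
    rintro ⟨q, hq⟩ hqk
    rw [Subgroup.mem_bot]
    have h1 : q ∈ Subgroup.zpowers ((QuotientGroup.mk' (Cfsg.pCore 2 L)) x) := by rw [← h.ker_conj hr2 hx hcen]; exact hqk
    have h2 : q = 1 := Subgroup.mem_bot.1 ((IsPGroup.disjoint_of_ne 2 r (Ne.symm hr2) _ _ (hA.map (QuotientGroup.mk' (Cfsg.pCore 2 L)))
      (IsPGroup.of_card (n := 1) (by rw [Nat.card_zpowers, hx, pow_one]))).le_bot ⟨hq, h1⟩)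
    exact Subtype.ext h2
  exact ⟨isCyclic_of_injective f hf, hcard ▸ Subgroup.card_dvd_of_injective f hf⟩

/-- Elements of order 2 of the top invert. -/
theorem Local.inverts {g : L} (hg : orderOf ((QuotientGroup.mk' (Cfsg.pCore 2 L)) g) = 2) : (QuotientGroup.mk' (Cfsg.pCore 2 L)) g * (QuotientGroup.mk' (Cfsg.pCore 2 L)) x * ((QuotientGroup.mk' (Cfsg.pCore 2 L)) g)⁻¹ = ((QuotientGroup.mk' (Cfsg.pCore 2 L)) x)⁻¹ := by
  set q := (QuotientGroup.mk' (Cfsg.pCore 2 L)) g with hq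
  set z := (QuotientGroup.mk' (Cfsg.pCore 2 L)) x with hz
  have hmem : q * z * q⁻¹ ∈ Subgroup.zpowers z :=
    Subgroup.Normal.conj_mem inferInstance _ (Subgroup.mem_zpowers z) q
  obtain ⟨i, hi⟩ := Subgroup.mem_zpowers_iff.1 hmem
  have hqq : q * q = 1 := mul_self_of_orderOf_two hg
  have hqi : q⁻¹ = q := inv_eq_of_mul_eq_one_right hqq
  have h2 : z ^ (i * i) = z := by
    rw [zpow_mul, hi, conj_zpow, hi, show q * (q * z * q⁻¹) * q⁻¹ = (q * q) * z * (q * q)⁻¹ by group, hqq]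
    group
  have h3 : z ^ (i * i - 1) = 1 := by rw [zpow_sub, h2, zpow_one, mul_inv_cancel]
  have h4 : (r : ℤ) ∣ (i - 1) * (i + 1) := by
    rw [show (i - 1) * (i + 1) = i * i - 1 by ring, ← hx]
    exact orderOf_dvd_iff_zpow_eq_one.2 h3
  rcases (Nat.prime_iff_prime_int.1 (Fact.out : r.Prime)).dvd_mul.1 h4 with h5 | h5
  · exfalso
    have h6 : z ^ (i - 1) = 1 := by rw [← hx] at h5; exact orderOf_dvd_iff_zpow_eq_one.1 h5
    have h7 : q * z * q⁻¹ = z := by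
      rw [← hi]
      rw [zpow_sub_one] at h6
      exact mul_inv_eq_one.1 h6
    have h8 : q ∈ Subgroup.zpowers z := by
      rw [← hcen, Subgroup.mem_centralizer_singleton_iff]
      exact mul_inv_eq_iff_eq_mul.1 h7
    have h9 := Subgroup.orderOf_dvd_natCard _ h8
    rw [hg, Nat.card_zpowers, hx] at h9
    exact hr2 ((Nat.prime_dvd_prime_iff_eq Nat.prime_two Fact.out).1 h9).symm
  · have h6 : z ^ (i + 1) = 1 := by rw [← hx] at h5; exact orderOf_dvd_iff_zpow_eq_one.1 h5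
    rw [← hi, eq_inv_iff_mul_eq_one, ← zpow_add_one]
    exact h6

end

/-- Elements of odd prime order act without fixed points on the 2-core. -/
theorem Local.inf_cent {r : ℕ} (hr : r.Prime) (hr2 : r ≠ 2) {x : L} (hx : orderOf x = r) {d : L}
    (hd : d ∈ (Cfsg.pCore 2 L)) (hdx : Commute d x) : d = 1 := by
  haveI : Fact (Nat.Prime 2) := ⟨Nat.prime_two⟩
  by_contra hd1
  obtain ⟨k, hk⟩ := (IsPGroup.iff_orderOf.1 h.core_two) ⟨d, hd⟩
  rw [Subgroup.orderOf_mk] at hk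
  have hk0 : k ≠ 0 := fun e => hd1 (orderOf_eq_one_iff.1 (by rw [hk, e, pow_zero]))
  exact hr2 (EPPO.prime_eq_of_commute h.ord.ipp Nat.prime_two hr
    (orderOf_pow_orderOf_div (orderOf_pos d).ne' (hk ▸ dvd_pow_self 2 hk0)) hx (hdx.pow_left _)).symm

/-- The displacement of `v` under `g`. -/
theorem Local.offender {A : Subgroup L} [IsMulCommutative A] (hA : IsPGroup 2 A) (hAD : ¬ A ≤ (Cfsg.pCore 2 L))
    (hmax : Nat.card ↥((A ⊓ (Cfsg.pCore 2 L)) ⊔ omegaCen (Cfsg.pCore 2 L)) ≤ Nat.card A) :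
    Nat.card (omegaCen (Cfsg.pCore 2 L)) = 4 ∧ Nat.card (L ⧸ (Cfsg.pCore 2 L)) = 6 ∧ ∃ p q : L ⧸ (Cfsg.pCore 2 L), p * q ≠ q * p := by
  classical
  haveI : Fact (Nat.Prime 2) := ⟨Nat.prime_two⟩
  obtain ⟨r, x, hr, hr2, hxo, hx, hn, hcen⟩ := h.exists_data
  haveI := Fact.mk hr
  haveI := hn
  obtain ⟨hcyc, hdvd⟩ := h.two_image hr2 hx hcen hA
  set V := omegaCen (Cfsg.pCore 2 L) with hV
  haveI hVn : V.Normal := omegaCen_normal _
  have hVD : V ≤ (Cfsg.pCore 2 L) := omegaCen_le _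
  haveI hVc : IsMulCommutative V := omegaCen_comm _
  have hcomm : ∀ a b : L, a ∈ V → b ∈ V → a * b = b * a := fun a b ha hb =>
    congrArg Subtype.val (hVc.is_comm.comm ⟨a, ha⟩ ⟨b, hb⟩)
  have hsq : ∀ v ∈ V, v * v = 1 := fun v hv => hv.2.2
  have hinv : ∀ v ∈ V, v⁻¹ = v := fun v hv => inv_eq_of_mul_eq_one_right (hsq v hv)
  have hcD : ∀ v ∈ V, ∀ d ∈ (Cfsg.pCore 2 L), d * v = v * d := fun v hv d hd => Subgroup.mem_centralizer_iff.1 hv.2.1 d hd
  have hVA : IsPGroup 2 V := h.core_two.to_le hVD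
  -- a generator of the image
  obtain ⟨j, hj⟩ := IsPGroup.iff_card.1 (hA.map (QuotientGroup.mk' (Cfsg.pCore 2 L)))
  obtain ⟨⟨c, hc⟩, hcgen⟩ := IsCyclic.exists_ofOrder_eq_natCard (α := A.map (QuotientGroup.mk' (Cfsg.pCore 2 L)))
  obtain ⟨a, haA, rfl⟩ := hc
  rw [← Subgroup.orderOf_coe, hj] at hcgen
  change orderOf ((QuotientGroup.mk' (Cfsg.pCore 2 L)) a) = 2 ^ j at hcgen
  have hj0 : j ≠ 0 := by
    rintro rfl
    refine hAD fun b hb => ?_
    have hb1 : (QuotientGroup.mk' (Cfsg.pCore 2 L)) b ∈ A.map (QuotientGroup.mk' (Cfsg.pCore 2 L)) := ⟨b, hb, rfl⟩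
    rw [Subgroup.card_eq_one.1 (hj.trans (pow_zero 2)), Subgroup.mem_bot] at hb1
    exact (QuotientGroup.eq_one_iff b).1 hb1
  set C : L → Subgroup L := fun g => V ⊓ Subgroup.centralizer ({g} : Set L) with hC
  have hCmem : ∀ g v, v ∈ C g ↔ v ∈ V ∧ g * v * g⁻¹ = v := fun g v => by
    simp only [C, Subgroup.mem_inf, Subgroup.mem_centralizer_singleton_iff, mul_inv_eq_iff_eq_mul]
    exact and_congr_right fun _ => eq_comm
  have hcj : ∀ g v, v ∈ V → g * v * g⁻¹ ∈ V := fun g v hv => hVn.conj_mem v hv g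
  set f : L → L → L := fun g v => g * v * g⁻¹ * v with hf
  have hfmem : ∀ g v, v ∈ V → f g v ∈ V := fun g v hv => mul_mem (hcj g v hv) hv
  have hf1 : ∀ g v, v ∈ V → (f g v = 1 ↔ v ∈ C g) := fun g v hv => by
    rw [hCmem, hf]
    refine ⟨fun e => ⟨hv, (eq_inv_of_mul_eq_one_left e).trans (hinv v hv)⟩, fun e => ?_⟩
    show g * v * g⁻¹ * v = 1
    rw [e.2, hsq v hv]
  have hff : ∀ g v, v ∈ V → f g (f g v) = f (g * g) v := fun g v hv => by
    show g * (g * v * g⁻¹ * v) * g⁻¹ * (g * v * g⁻¹ * v) = g * g * v * (g * g)⁻¹ * v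
    rw [show g * (g * v * g⁻¹ * v) * g⁻¹ * (g * v * g⁻¹ * v) =
      g * g * v * (g * g)⁻¹ * ((g * v * g⁻¹) * (g * v * g⁻¹)) * v by group, hsq _ (hcj g v hv), mul_one]
  have hfix : ∀ g, C g = C (g * g) → C (g * g) = C (g * g * (g * g)) := by
    intro g hg
    refine le_antisymm (fun v hv => ?_) (fun v hv => ?_)
    · rw [hCmem] at hv ⊢
      refine ⟨hv.1, ?_⟩
      rw [show g * g * (g * g) * v * (g * g * (g * g))⁻¹ = g * g * (g * g * v * (g * g)⁻¹) * (g * g)⁻¹ by group,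
        hv.2, hv.2]
    · have hvV := ((hCmem _ v).1 hv).1
      have hw : f (g * g) v ∈ C g := by
        rw [hg, ← hf1 _ _ (hfmem _ _ hvV), hff _ _ hvV, hf1 _ _ hvV]
        exact hv
      have hu : f g v ∈ C g := by
        rw [hg, ← hf1 _ _ (hfmem _ _ hvV), ← hff g _ (hfmem g v hvV), hff g v hvV,
          hf1 g _ (hfmem _ _ hvV)]
        exact hw
      rw [← hf1 _ _ hvV, ← hff g v hvV, hf1 g _ (hfmem g v hvV)]
      exact hu
  have hstep : ∀ m g, (∀ v ∈ V, v ∈ C (g ^ 2 ^ m)) → C g = C (g * g) → ∀ v ∈ V, v ∈ C g := by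
    intro m
    induction m with
    | zero =>
      intro g hg _ v hv
      simpa using hg v hv
    | succ m ih =>
      intro g hg he v hv
      rw [he]
      refine ih (g * g) (fun w hw => ?_) (hfix g he) v hv
      have := hg w hw
      rwa [pow_succ', pow_mul, pow_two] at this
  -- the element of order two in the image
  set y := a ^ 2 ^ (j - 1) with hy
  have hyo : orderOf ((QuotientGroup.mk' (Cfsg.pCore 2 L)) y) = 2 := by
    rw [hy, map_pow, orderOf_pow_of_dvd (pow_ne_zero _ two_ne_zero) (hcgen ▸ Nat.pow_dvd_pow 2 (by omega)),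
      hcgen, Nat.pow_div (by omega) two_pos, show j - (j - 1) = 1 by omega, pow_one]
  have hyx := h.inverts hr2 hx hcen hyo
  have hy2 : y * y ∈ (Cfsg.pCore 2 L) := by
    rw [← QuotientGroup.eq_one_iff]
    show (QuotientGroup.mk' (Cfsg.pCore 2 L)) (y * y) = 1
    rw [map_mul, mul_self_of_orderOf_two hyo]
  have hDfix : ∀ d ∈ (Cfsg.pCore 2 L), ∀ v ∈ V, d * v * d⁻¹ = v := fun d hd v hv => by
    rw [hcD v hv d hd, mul_inv_cancel_right]
  -- the fixed points of `y`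
  have hupper : Nat.card V ≤ Nat.card (C y) * Nat.card (C y) := by
    let φ : V →* V := MonoidHom.mk' (fun v => ⟨f y v, hfmem y v v.2⟩) fun v w => Subtype.ext (by
      show y * ((v : L) * w) * y⁻¹ * ((v : L) * w) = y * v * y⁻¹ * v * (y * w * y⁻¹ * w)
      calc y * ((v : L) * w) * y⁻¹ * ((v : L) * w) = (y * v * y⁻¹) * ((y * w * y⁻¹) * v) * w := by group
        _ = (y * v * y⁻¹) * ((v : L) * (y * w * y⁻¹)) * w := by rw [hcomm _ _ (hcj y w w.2) v.2]
        _ = _ := by group)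
    rw [← φ.ker.card_mul_index, Subgroup.index_ker]
    refine Nat.mul_le_mul ?_ ?_
    · refine Nat.card_le_card_of_injective (fun v : φ.ker => (⟨((v : V) : L),
        (hf1 y _ (v : V).2).1 (congrArg Subtype.val (MonoidHom.mem_ker.1 v.2))⟩ : C y)) fun v w e => ?_
      exact Subtype.ext (Subtype.ext (congrArg Subtype.val e :))
    · refine Nat.card_le_card_of_injective (fun v : φ.range => (⟨((v : V) : L), by
        obtain ⟨w, hw⟩ := v.2
        rw [← hw]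
        show f y w ∈ C y
        rw [← hf1 _ _ (hfmem _ _ w.2), hff _ _ w.2]
        show y * y * (w : L) * (y * y)⁻¹ * w = 1
        rw [hDfix _ hy2 _ w.2, hsq _ w.2]⟩ : C y)) fun v w e => ?_
      exact Subtype.ext (Subtype.ext (congrArg Subtype.val e :))
  have hlower : Nat.card (C y) * Nat.card (C y) ≤ Nat.card V := by
    rw [← Nat.card_prod]
    have hC' : ∀ v : C y, x * (v : L) * x⁻¹ ∈ V := fun v => hcj x v v.2.1
    refine Nat.card_le_card_of_injective (fun p : C y × C y =>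
      (⟨(p.1 : L) * (x * p.2 * x⁻¹), mul_mem p.1.2.1 (hC' p.2)⟩ : V)) ?_
    rintro ⟨a₁, b₁⟩ ⟨a₂, b₂⟩ e
    have e1 : (a₁ : L) * (x * b₁ * x⁻¹) = a₂ * (x * b₂ * x⁻¹) := congrArg Subtype.val e
    set w : L := (a₂ : L)⁻¹ * a₁ with hw
    have hw1 : w ∈ C y := mul_mem (inv_mem a₂.2) a₁.2
    have hw2 : w = x * ((b₂ : L) * (b₁ : L)⁻¹) * x⁻¹ := by
      rw [hw, inv_mul_eq_iff_eq_mul, show x * ((b₂ : L) * (b₁ : L)⁻¹) * x⁻¹ =
        x * b₂ * x⁻¹ * (x * b₁ * x⁻¹)⁻¹ by group, ← mul_assoc, eq_mul_inv_iff_mul_eq]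
      exact e1
    have hb : (b₂ : L) * (b₁ : L)⁻¹ ∈ C y := mul_mem b₂.2 (inv_mem b₁.2)
    -- `w` is fixed by `x * x` modulo the core
    obtain ⟨d, hd, hxy⟩ : ∃ d ∈ (Cfsg.pCore 2 L), x * y * x⁻¹ * y = x * x * d := by
      refine ⟨(x * x)⁻¹ * (x * y * x⁻¹ * y), ?_, by rw [mul_inv_cancel_left]⟩
      rw [← QuotientGroup.eq]
      show (QuotientGroup.mk' (Cfsg.pCore 2 L)) (x * x) = (QuotientGroup.mk' (Cfsg.pCore 2 L)) (x * y * x⁻¹ * y)
      rw [map_mul, map_mul, map_mul, map_mul, map_inv]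
      have hyy : (QuotientGroup.mk' (Cfsg.pCore 2 L)) y * (QuotientGroup.mk' (Cfsg.pCore 2 L)) y = 1 := mul_self_of_orderOf_two hyo
      have hyi : ((QuotientGroup.mk' (Cfsg.pCore 2 L)) y)⁻¹ = (QuotientGroup.mk' (Cfsg.pCore 2 L)) y := inv_eq_of_mul_eq_one_right hyy
      have hp : (QuotientGroup.mk' (Cfsg.pCore 2 L)) y * ((QuotientGroup.mk' (Cfsg.pCore 2 L)) x)⁻¹ * (QuotientGroup.mk' (Cfsg.pCore 2 L)) y = (QuotientGroup.mk' (Cfsg.pCore 2 L)) x := by
        have h' := congrArg (·⁻¹) hyx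
        simp only [mul_inv_rev, inv_inv, hyi] at h'
        rw [← mul_assoc] at h'
        exact h'
      calc (QuotientGroup.mk' (Cfsg.pCore 2 L)) x * (QuotientGroup.mk' (Cfsg.pCore 2 L)) x = (QuotientGroup.mk' (Cfsg.pCore 2 L)) x * ((QuotientGroup.mk' (Cfsg.pCore 2 L)) y * ((QuotientGroup.mk' (Cfsg.pCore 2 L)) x)⁻¹ * (QuotientGroup.mk' (Cfsg.pCore 2 L)) y) := by rw [hp]
        _ = (QuotientGroup.mk' (Cfsg.pCore 2 L)) x * (QuotientGroup.mk' (Cfsg.pCore 2 L)) y * ((QuotientGroup.mk' (Cfsg.pCore 2 L)) x)⁻¹ * (QuotientGroup.mk' (Cfsg.pCore 2 L)) y := by group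
    have hfx : (x * x * d) * w * (x * x * d)⁻¹ = w := by
      rw [← hxy, show x * y * x⁻¹ * y * w * (x * y * x⁻¹ * y)⁻¹ =
        x * y * x⁻¹ * (y * w * y⁻¹) * x * y⁻¹ * x⁻¹ by group, ((hCmem y w).1 hw1).2]
      conv_lhs => rw [hw2]
      conv_rhs => rw [hw2]
      rw [show x * y * x⁻¹ * (x * ((b₂ : L) * (b₁ : L)⁻¹) * x⁻¹) * x * y⁻¹ * x⁻¹ =
        x * (y * ((b₂ : L) * (b₁ : L)⁻¹) * y⁻¹) * x⁻¹ by group, ((hCmem y _).1 hb).2]
    have hxx : x * x * w * (x * x)⁻¹ = w := by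
      conv_rhs => rw [← hfx, show x * x * d * w * (x * x * d)⁻¹ =
        x * x * (d * w * d⁻¹) * (x * x)⁻¹ by group, hDfix d hd w hw1.1]
    have hxxo : orderOf (x * x) = r := by
      rw [← pow_two, (hxo ▸ (Nat.coprime_primes Nat.prime_two hr).2 hr2.symm : (2 : ℕ).Coprime (orderOf x)).symm.orderOf_pow,
        hxo]
    have hw0 : w = 1 := h.inf_cent hr hr2 hxxo (hVD hw1.1) (mul_inv_eq_iff_eq_mul.1 hxx).symm
    have hb0 : (b₂ : L) * (b₁ : L)⁻¹ = 1 := by
      have h' : x * ((b₂ : L) * (b₁ : L)⁻¹) * x⁻¹ = 1 := hw2.symm.trans hw0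
      simpa using h'
    rw [hw, inv_mul_eq_one] at hw0
    exact Prod.ext (Subtype.ext hw0.symm) (Subtype.ext (mul_inv_eq_one.1 hb0).symm)
  -- counting
  have hcA : Nat.card A = 2 ^ j * Nat.card ↥(A ⊓ (Cfsg.pCore 2 L)) := by
    rw [← hj, ← card_map_mk'_mul_card_inf (Cfsg.pCore 2 L) A, inf_comm]
  have hsup : Nat.card ↥((A ⊓ (Cfsg.pCore 2 L)) ⊔ V) * Nat.card ↥(A ⊓ V) = Nat.card ↥(A ⊓ (Cfsg.pCore 2 L)) * Nat.card V := by
    have h1 : V.relIndex ((A ⊓ (Cfsg.pCore 2 L)) ⊔ V) = V.relIndex (A ⊓ (Cfsg.pCore 2 L)) := Subgroup.relIndex_sup_right _ _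
    have h2 := Subgroup.relIndex_mul_relIndex (⊥ : Subgroup L) V ((A ⊓ (Cfsg.pCore 2 L)) ⊔ V) bot_le le_sup_right
    rw [Subgroup.relIndex_bot_left, Subgroup.relIndex_bot_left, h1] at h2
    have h3 := Subgroup.relIndex_mul_relIndex (⊥ : Subgroup L) (A ⊓ V) (A ⊓ (Cfsg.pCore 2 L)) bot_le
      (inf_le_inf_left A hVD)
    rw [Subgroup.relIndex_bot_left, Subgroup.relIndex_bot_left,
      show (A ⊓ V).relIndex (A ⊓ (Cfsg.pCore 2 L)) = V.relIndex (A ⊓ (Cfsg.pCore 2 L)) by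
        rw [← Subgroup.inf_relIndex_right V (A ⊓ (Cfsg.pCore 2 L)), ← Subgroup.inf_relIndex_right (A ⊓ V) (A ⊓ (Cfsg.pCore 2 L))]
        congr 1
        exact le_antisymm (le_inf (inf_le_left.trans inf_le_right) inf_le_right)
          (le_inf (le_inf (inf_le_right.trans inf_le_left) inf_le_left) inf_le_right)] at h3
    rw [← h2, ← h3]
    ring
  have hVle : Nat.card V ≤ 2 ^ j * Nat.card ↥(A ⊓ V) := by
    have h1 : Nat.card ↥(A ⊓ (Cfsg.pCore 2 L)) * Nat.card V ≤ Nat.card ↥(A ⊓ (Cfsg.pCore 2 L)) * (2 ^ j * Nat.card ↥(A ⊓ V)) :=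
      calc Nat.card ↥(A ⊓ (Cfsg.pCore 2 L)) * Nat.card V = Nat.card ↥((A ⊓ (Cfsg.pCore 2 L)) ⊔ V) * Nat.card ↥(A ⊓ V) := hsup.symm
        _ ≤ Nat.card A * Nat.card ↥(A ⊓ V) := Nat.mul_le_mul_right _ hmax
        _ = _ := by rw [hcA]; ring
    exact Nat.le_of_mul_le_mul_left h1 Nat.card_pos
  have hAa : A ⊓ V ≤ C a := fun v hv => (hCmem a v).2 ⟨hv.2, by
    have e : a * v = v * a := congrArg Subtype.val (mul_comm' (⟨a, haA⟩ : A) ⟨v, hv.1⟩)
    rw [e, mul_inv_cancel_right]⟩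
  have hCa : C a ≤ C y := fun v hv => by
    obtain ⟨hvV, e⟩ := (hCmem a v).1 hv
    refine ⟨hvV, Subgroup.mem_centralizer_singleton_iff.2 ?_⟩
    exact (((show Commute a v from mul_inv_eq_iff_eq_mul.1 e).pow_left _)).eq.symm
  obtain ⟨k, hk⟩ := IsPGroup.iff_card.1 (hVA.to_le (inf_le_left : C y ≤ V))
  have hVk : Nat.card V = 2 ^ k * 2 ^ k := hk ▸ le_antisymm hupper hlower
  have hle1 : Nat.card V ≤ 2 ^ j * Nat.card (C a) :=
    hVle.trans (Nat.mul_le_mul_left _ (Nat.card_le_card_of_injective _ (Subgroup.inclusion_injective hAa)))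
  have hle2 : Nat.card (C a) ≤ 2 ^ k := hk ▸ Nat.card_le_card_of_injective _ (Subgroup.inclusion_injective hCa)
  have hkj : 2 ^ k ≤ 2 ^ j := Nat.le_of_mul_le_mul_right
    (hVk ▸ hle1.trans (Nat.mul_le_mul_left _ hle2)) (pow_pos two_pos k)
  have hV1 : 1 < Nat.card V := by
    have := omegaCen_ne_bot h.core_two h.core
    exact (Subgroup.one_lt_card_iff_ne_bot _).2 this
  -- `x` has no fixed points on `V`
  have hmod : r ∣ 2 ^ k * 2 ^ k - 1 := by
    haveI := hVn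
    let ψ : Subgroup.zpowers x →* MulAut V := MulAut.conjNormal.comp (Subgroup.zpowers x).subtype
    letI : MulAction (Subgroup.zpowers x) V := MulAction.compHom V ψ
    have hp : IsPGroup r (Subgroup.zpowers x) :=
      IsPGroup.of_card (n := 1) (by rw [Nat.card_zpowers, hxo, pow_one])
    have hm := hp.card_modEq_card_fixedPoints V
    have hone : Nat.card (MulAction.fixedPoints (Subgroup.zpowers x) V) = 1 := by
      rw [Nat.card_eq_one_iff_unique]
      refine ⟨⟨fun v w => Subtype.ext ?_⟩, ⟨⟨1, fun g => map_one (ψ g)⟩⟩⟩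
      have key : ∀ v : MulAction.fixedPoints (Subgroup.zpowers x) V, (v : V) = 1 := fun v => by
        have h1 := congrArg Subtype.val (v.2 ⟨x, Subgroup.mem_zpowers x⟩)
        exact Subtype.ext (h.inf_cent hr hr2 hxo (hVD (v : V).2) (mul_inv_eq_iff_eq_mul.1 h1).symm)
      rw [key v, key w]
    rw [hone, hVk] at hm
    exact (Nat.modEq_iff_dvd' (Nat.one_le_iff_ne_zero.2 (by positivity))).1 hm.symm
  have hjr : 2 ^ j ≤ r - 1 := Nat.le_of_dvd (by have := hr.two_le; omega) (hj ▸ hdvd)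
  have hk1 : 2 ≤ 2 ^ k := by
    by_contra hlt
    have : 2 ^ k = 1 := by have := Nat.one_le_two_pow (n := k); omega
    rw [hVk, this] at hV1
    omega
  have hr' : r ≤ 2 ^ k + 1 := by
    obtain ⟨K, hK⟩ : ∃ K, 2 ^ k = K + 1 := ⟨2 ^ k - 1, by omega⟩
    rw [hK, show (K + 1) * (K + 1) - 1 = K * (K + 2) by
      rw [show (K + 1) * (K + 1) = K * (K + 2) + 1 by ring, Nat.add_sub_cancel]] at hmod
    rcases hr.dvd_mul.1 hmod with h' | h'
    · have := Nat.le_of_dvd (by omega) h'; omega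
    · have := Nat.le_of_dvd (by omega) h'; omega
  have hkeq : k = j := le_antisymm ((Nat.pow_le_pow_iff_right (by norm_num)).1 hkj)
    ((Nat.pow_le_pow_iff_right (by norm_num : 1 < 2)).1 (by omega))
  subst hkeq
  have hCeq : C a = C y := Subgroup.eq_of_le_of_card_ge hCa (by
    rw [hk]
    exact Nat.le_of_mul_le_mul_left (hVk ▸ hle1) (pow_pos two_pos k))
  have hk_one : k = 1 := by
    by_contra hne
    have hsq' : C a = C (a * a) := le_antisymm
      (fun v hv => ⟨hv.1, Subgroup.mem_centralizer_singleton_iff.2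
        (((Subgroup.mem_centralizer_singleton_iff.1 hv.2 : v * a = a * v)
          |> fun e => (show Commute v a from e).mul_right e).eq)⟩)
      (fun v hv => by
        rw [hCeq]
        refine ⟨hv.1, Subgroup.mem_centralizer_singleton_iff.2 ?_⟩
        rw [hy, show 2 ^ (k - 1) = 2 * 2 ^ (k - 2) by rw [← pow_succ']; congr 1; omega, pow_mul, pow_two]
        exact ((show Commute v (a * a) from Subgroup.mem_centralizer_singleton_iff.1 hv.2).pow_right _).eq)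
    have hall : ∀ v ∈ V, v ∈ C a := hstep k a (fun v hv => (hCmem _ v).2 ⟨hv, by
      have hd : a ^ 2 ^ k ∈ (Cfsg.pCore 2 L) := by
        rw [← QuotientGroup.eq_one_iff]
        show (QuotientGroup.mk' (Cfsg.pCore 2 L)) (a ^ 2 ^ k) = 1
        rw [map_pow, ← hcgen, pow_orderOf_eq_one]
      exact hDfix _ hd v hv⟩) hsq'
    have hVC : Nat.card V ≤ 2 ^ k := le_trans
      (Nat.card_le_card_of_injective _ (Subgroup.inclusion_injective (show V ≤ C a from hall))) hle2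
    rw [hVk] at hVC
    nlinarith
  subst hk_one
  have hr3 : r = 3 := by
    have := hr.two_le
    simp only [pow_one] at hr' hjr
    omega
  subst hr3
  refine ⟨by rw [hVk]; norm_num, ?_, (QuotientGroup.mk' (Cfsg.pCore 2 L)) x, (QuotientGroup.mk' (Cfsg.pCore 2 L)) y, fun e => ?_⟩
  · set χ := (MulAut.conjNormal : L ⧸ (Cfsg.pCore 2 L) →* MulAut (Subgroup.zpowers ((QuotientGroup.mk' (Cfsg.pCore 2 L)) x))) with hχ
    have hker : χ.ker = Subgroup.zpowers ((QuotientGroup.mk' (Cfsg.pCore 2 L)) x) := h.ker_conj hr2 hx hcen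
    have h1 := χ.ker.card_mul_index
    rw [Subgroup.index_ker, hker, Nat.card_zpowers, hx] at h1
    have h2 : Nat.card χ.range ∣ 2 := by
      have := Subgroup.card_subgroup_dvd_card χ.range
      rwa [(h.card_mulAut hr2 hx hcen).2] at this
    have h3 : 2 ∣ Nat.card (L ⧸ (Cfsg.pCore 2 L)) := by
      have := orderOf_dvd_natCard ((QuotientGroup.mk' (Cfsg.pCore 2 L)) y)
      rwa [hyo] at this
    rcases (Nat.dvd_prime Nat.prime_two).1 h2 with e | e <;> rw [e] at h1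
    · rw [← h1] at h3; norm_num at h3
    · rw [← h1]
  · have h1 : (QuotientGroup.mk' (Cfsg.pCore 2 L)) y * (QuotientGroup.mk' (Cfsg.pCore 2 L)) x * ((QuotientGroup.mk' (Cfsg.pCore 2 L)) y)⁻¹ = (QuotientGroup.mk' (Cfsg.pCore 2 L)) x := by rw [← e, mul_inv_cancel_right]
    rw [hyx] at h1
    have h2 : (QuotientGroup.mk' (Cfsg.pCore 2 L)) x * (QuotientGroup.mk' (Cfsg.pCore 2 L)) x = 1 := by
      nth_rewrite 2 [← h1]
      exact mul_inv_cancel _
    have h3 : orderOf ((QuotientGroup.mk' (Cfsg.pCore 2 L)) x) ∣ 2 := orderOf_dvd_of_pow_eq_one (by rw [pow_two]; exact h2)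
    rw [hx] at h3
    norm_num at h3

end Cfsg.Agent.Solv.EPPOSeven
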