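import Cfsg.Agent.Lib.Solv.EPPOSeven.Embedded
import Cfsg.Agent.Lib.Solv.EPPOSeven.Four
import Cfsg.Agent.Lib.Solv.CNOddTheorem
import Cfsg.Agent.Lib.Small.SL2.Orders
import Cfsg.Agent.S3331

/-!
Simple groups with all nonidentity elements of 2-power or prime order other than five.
-/

set_option autoImplicit false
set_option linter.style.haveILetI false

namespace Cfsg.Agent.Solv.EPPOSeven

open Cfsg

universe u

variable {G : Type u} [Group G] [Finite G]

theorem two_pow_or (hO : Ord G) {g : G} {m : ℕ} (hg : orderOf g = m) (hm : 1 < m) :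
    (∃ k, m = 2 ^ k) ∨ m.Prime := by
  rcases hO g (fun e => by rw [e, orderOf_one] at hg; omega) with ⟨k, hk⟩ | ⟨hp, -⟩
  · exact Or.inl ⟨k, hg.symm.trans hk⟩
  · exact Or.inr (hg ▸ hp)

theorem not_three_pow_succ {a k : ℕ} (ha : 3 ≤ a) : 3 ^ a + 1 ≠ 2 ^ k := by
  intro e
  have h27 : 3 ^ 3 ≤ 3 ^ a := Nat.pow_le_pow_right (by norm_num) ha
  have hk : 4 ≤ k := by
    by_contra hlt
    have : 2 ^ k ≤ 2 ^ 3 := Nat.pow_le_pow_right (by norm_num) (by omega)
    omega
  have h16 : (3 ^ a + 1) % 16 = 0 := by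
    rw [e]; exact Nat.mod_eq_zero_of_dvd ((Nat.pow_dvd_pow 2 hk).trans dvd_rfl)
  have hm : 3 ^ a % 16 = 3 ^ (a % 4) % 16 := by
    conv_lhs => rw [← Nat.div_add_mod a 4, pow_add, pow_mul, Nat.mul_mod, Nat.pow_mod]
    norm_num
  have : a % 4 < 4 := Nat.mod_lt _ (by norm_num)
  rw [Nat.add_mod, hm] at h16
  interval_cases h : a % 4 <;> simp_all

theorem not_three_pow_pred {a k : ℕ} (ha : 3 ≤ a) : 3 ^ a ≠ 2 ^ k + 1 := by
  intro e
  have h27 : 3 ^ 3 ≤ 3 ^ a := Nat.pow_le_pow_right (by norm_num) ha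
  have hk : 4 ≤ k := by
    by_contra hlt
    have : 2 ^ k ≤ 2 ^ 3 := Nat.pow_le_pow_right (by norm_num) (by omega)
    omega
  have h16 : 3 ^ a % 16 = 1 := by
    rw [e, Nat.add_mod, Nat.mod_eq_zero_of_dvd ((Nat.pow_dvd_pow 2 hk).trans dvd_rfl)]
  have hm : ∀ n, 3 ^ a % n = (3 ^ 4 % n) ^ (a / 4) % n * (3 ^ (a % 4) % n) % n := fun n => by
    conv_lhs => rw [← Nat.div_add_mod a 4, pow_add, pow_mul, Nat.mul_mod, Nat.pow_mod]
  have h4 : a % 4 = 0 := by
    have h := hm 16
    norm_num at h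
    rw [h] at h16
    have : a % 4 < 4 := Nat.mod_lt _ (by norm_num)
    interval_cases h : a % 4 <;> simp_all
  have h5 : 3 ^ a % 5 = 1 := by
    have h := hm 5
    rw [h4] at h
    norm_num at h
    exact h
  have h5' : 5 ∣ 2 ^ k := by
    rw [Nat.dvd_iff_mod_eq_zero]
    omega
  have := (Nat.prime_dvd_prime_iff_eq (by norm_num : Nat.Prime 5) Nat.prime_two).1
    ((by norm_num : Nat.Prime 5).dvd_of_dvd_pow h5')
  omega

theorem psl_card_facts (hO : Ord G) {F : Type*} [Field F] [Fintype F]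
    (e : G ≃* Matrix.ProjectiveSpecialLinearGroup (Fin 2) F) :
    3 ∣ Nat.card G ∧ ¬ 9 ∣ Nat.card G := by
  classical
  obtain ⟨p, hp⟩ := CharP.exists F
  haveI : Fact p.Prime := ⟨CharP.char_is_prime F p⟩
  have hp' : p.Prime := Fact.out
  obtain ⟨a, ha0, ha⟩ := FiniteField.card F p
  set q := Fintype.card F with hq
  set d := Nat.gcd 2 (q - 1) with hd
  have hcard : Nat.card G * d = q * (q ^ 2 - 1) := by
    rw [Nat.card_congr e.toEquiv]
    exact Classical.Dickson.card_psl F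
  have hd12 : d = 1 ∨ d = 2 := (Nat.dvd_prime Nat.prime_two).1 (Nat.gcd_dvd_left _ _)
  have hq2 : 2 ≤ q := Fintype.one_lt_card
  have hfac : q ^ 2 - 1 = (q - 1) * (q + 1) := by
    obtain ⟨Q, hQ⟩ : ∃ Q, q = Q + 1 := ⟨q - 1, by omega⟩
    rw [hQ, Nat.add_sub_cancel, show (Q + 1) ^ 2 = Q * (Q + 1 + 1) + 1 by ring, Nat.add_sub_cancel]
  rw [hfac] at hcard
  have h3 : 3 ∣ Nat.card G := by
    have h : 3 ∣ Nat.card G * d := by
      rw [hcard]
      rcases (show q % 3 = 0 ∨ q % 3 = 1 ∨ q % 3 = 2 by omega) with h | h | h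
      · exact dvd_mul_of_dvd_left (Nat.dvd_of_mod_eq_zero h) _
      · exact dvd_mul_of_dvd_right (dvd_mul_of_dvd_left (by omega) _) _
      · exact dvd_mul_of_dvd_right (dvd_mul_of_dvd_right (by omega) _) _
    refine ((?_ : Nat.Coprime 3 d)).dvd_of_dvd_mul_right h
    rcases hd12 with e' | e' <;> rw [e'] <;> norm_num
  refine ⟨h3, fun h9 => ?_⟩
  -- elements of the tori
  have hord : 4 ≤ q → ∀ m, (m ∣ p ∨ m ∣ (q - 1) / d ∨ m ∣ (q + 1) / d) → ∃ g : G, orderOf g = m := fun h4 m hm => by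
    obtain ⟨y, hy⟩ := Small.SL2C.order_exists p h4 m hm
    exact ⟨e.symm y, by rw [← hy]; exact orderOf_injective e.symm.toMonoidHom e.symm.injective y⟩
  have h9' : 9 ∣ q * ((q - 1) * (q + 1)) := hcard ▸ dvd_mul_of_dvd_left h9 d
  by_cases hp3 : p = 3
  · subst hp3
    have hd2 : d = 2 := by
      refine Nat.gcd_eq_left ?_
      have : q % 2 = 1 := by rw [ha, Nat.pow_mod]; simp
      omega
    have hq1 : q % 2 = 1 := by rw [ha, Nat.pow_mod]; simp
    by_cases ha2 : (a : ℕ) ≤ 2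
    · have hcase : q = 3 ∨ q = 9 := by
        have : 0 < (a : ℕ) := a.pos
        rcases (show (a : ℕ) = 1 ∨ (a : ℕ) = 2 by omega) with e' | e' <;> rw [ha, e'] <;> norm_num
      rw [hd2] at hcard
      rcases hcase with e' | e' <;> rw [e'] at hcard
      · have : Nat.card G = 12 := by omega
        rw [this] at h9
        norm_num at h9
      · exact hO.not_five (by
          have : Nat.card G = 360 := by omega
          rw [this]; norm_num)
    have ha3 : 3 ≤ (a : ℕ) := by omega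
    have h27 : 27 ≤ q := ha ▸ (Nat.pow_le_pow_right (by norm_num) ha3 : 3 ^ 3 ≤ 3 ^ (a : ℕ))
    rw [hd2] at hord
    obtain ⟨g₁, hg₁⟩ := hord (by omega) ((q - 1) / 2) (Or.inr (Or.inl dvd_rfl))
    obtain ⟨g₂, hg₂⟩ := hord (by omega) ((q + 1) / 2) (Or.inr (Or.inr dvd_rfl))
    rcases Nat.even_or_odd' ((q - 1) / 2) with ⟨k, hk | hk⟩
    · rcases two_pow_or hO hg₁ (by omega) with ⟨j, hj⟩ | hpr
      · refine not_three_pow_pred (k := j + 1) ha3 ?_
        rw [← ha, pow_succ, ← hj]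
        omega
      · have := hpr.eq_one_or_self_of_dvd 2 (hk ▸ dvd_mul_right 2 k)
        omega
    · rcases two_pow_or hO hg₂ (by omega) with ⟨j, hj⟩ | hpr
      · refine not_three_pow_succ (k := j + 1) ha3 ?_
        rw [← ha, pow_succ, ← hj]
        omega
      · have := hpr.eq_one_or_self_of_dvd 2 (by omega)
        omega
  · have hq3 : ¬ 3 ∣ q := fun h => hp3 ((Nat.prime_dvd_prime_iff_eq Nat.prime_three hp').1
      (Nat.prime_three.dvd_of_dvd_pow (ha ▸ h))).symm
    have h9'' : 9 ∣ (q - 1) * (q + 1) :=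
      (Nat.Coprime.pow_left 2 ((Nat.prime_three.coprime_iff_not_dvd).2 hq3)).dvd_of_dvd_mul_left h9'
    have h9c : 9 ∣ q - 1 ∨ 9 ∣ q + 1 := by
      by_cases h : 3 ∣ q + 1
      · refine Or.inr ((Nat.Coprime.pow_left 2 ((Nat.prime_three.coprime_iff_not_dvd).2 ?_)).dvd_of_dvd_mul_left h9'')
        omega
      · exact Or.inl ((Nat.Coprime.pow_left 2 ((Nat.prime_three.coprime_iff_not_dvd).2 h)).dvd_of_dvd_mul_right h9'')
    have hcop : Nat.Coprime 9 d := by rcases hd12 with e' | e' <;> rw [e'] <;> norm_num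
    have h4 : 4 ≤ q := by omega
    have hdiv : 9 ∣ (q - 1) / d ∨ 9 ∣ (q + 1) / d := by
      have hd1 : d ∣ q - 1 := Nat.gcd_dvd_right _ _
      have hd2' : d ∣ q + 1 := by
        rcases hd12 with e' | e'
        · rw [e']; exact one_dvd _
        · rw [e'] at hd1 ⊢; omega
      rcases h9c with h | h
      · exact Or.inl (hcop.dvd_of_dvd_mul_right (by rwa [Nat.div_mul_cancel hd1]))
      · exact Or.inr (hcop.dvd_of_dvd_mul_right (by rwa [Nat.div_mul_cancel hd2']))
    obtain ⟨g, hg⟩ := hord h4 9 (Or.inr hdiv)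
    rcases two_pow_or hO hg (by norm_num) with ⟨j, hj⟩ | hpr
    · have := (Nat.prime_dvd_prime_iff_eq Nat.prime_three Nat.prime_two).1
        (Nat.prime_three.dvd_of_dvd_pow (show 3 ∣ 2 ^ j by rw [← hj]; norm_num))
      omega
    · norm_num at hpr

theorem not_suzuki (hO : Ord G) (h : Cfsg.IsSuzuki G) : False := by
  obtain ⟨-, m, -, hm⟩ := h
  refine hO.not_five (hm ▸ dvd_mul_of_dvd_left (dvd_mul_of_dvd_right ?_ _) _)
  rw [← pow_mul, show (2 * m + 1) * 2 = 4 * m + 2 by ring, pow_add, pow_mul, Nat.dvd_iff_mod_eq_zero,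
    Nat.add_mod, Nat.mul_mod, Nat.pow_mod]
  norm_num

/-- The simple groups in question. -/
theorem simple_case [IsSimpleGroup G] (hns : ¬ Group.IsSolvable G) (hO : Ord G)
    (hloc : ∀ X : Subgroup G, X ≠ ⊥ → IsPGroup 2 X → Group.IsSolvable (Subgroup.normalizer (X : Set G))) :
    Nonempty (G ≃* Matrix.ProjectiveSpecialLinearGroup (Fin 2) (ZMod 7)) := by
  classical
  haveI : Fact (Nat.Prime 2) := ⟨Nat.prime_two⟩
  haveI : Fact (Nat.Prime 3) := ⟨Nat.prime_three⟩
  have hna : ∃ a b : G, a * b ≠ b * a := by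
    by_contra hno
    push Not at hno
    exact hns (Group.isSolvable_of_comm hno)
  have h2 : 2 ∣ Nat.card G := by
    by_contra hodd
    refine hns (isSolvable_of_odd_cn (Nat.odd_iff.2 (by omega)) fun g hg => ?_)
    obtain ⟨r, k, hr, hk0, hk⟩ := (isPrimePow_def _).1 (hO.ipp g hg)
    haveI := Fact.mk (Nat.prime_iff.2 hr)
    have hx := orderOf_pow_orderOf_div (orderOf_pos g).ne' (hk ▸ dvd_pow_self r hk0.ne')
    exact ((isPGroup_centralizer hO.ipp hx).to_le (fun c hc => Subgroup.mem_centralizer_singleton_iff.2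
      ((show Commute c g from Subgroup.mem_centralizer_singleton_iff.1 hc).pow_right _).eq)).isNilpotent
  obtain ⟨T⟩ : Nonempty (Sylow 2 G) := inferInstance
  have hne : (T : Subgroup G) ≠ ⊥ := T.ne_bot_of_dvd_card h2
  have hcard : 3 ∣ Nat.card G ∧ ¬ 9 ∣ Nat.card G := by
    by_cases h4 : ∃ V : Subgroup G, Nat.card V = 4 ∧ (∀ v ∈ V, v * v = 1) ∧
        Subgroup.centralizer (V : Set G) = V
    · obtain ⟨V, hV4, hVsq, hVC⟩ := h4
      obtain ⟨F, _, _, ⟨e⟩⟩ := psl_of_four hna hO V hV4 hVsq hVC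
      exact psl_card_facts hO e
    · push Not at h4
      rcases psl_or_suzuki hna ⟨hO, hloc, fun V hV hsq => h4 V hV hsq⟩ T hne with ⟨F, _, _, ⟨e⟩⟩ | hs
      · exact psl_card_facts hO e
      · exact (not_suzuki hO hs).elim
  obtain ⟨x, hx⟩ := exists_prime_orderOf_dvd_card' 3 hcard.1
  have hXc : Nat.card (Subgroup.zpowers x) = 3 := by rw [Nat.card_zpowers, hx]
  have hC : Subgroup.centralizer (Subgroup.zpowers x : Set G) = Subgroup.zpowers x := by
    haveI : IsMulCommutative (Subgroup.zpowers x) := inferInstance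
    have hle : Subgroup.zpowers x ≤ Subgroup.centralizer (Subgroup.zpowers x : Set G) :=
      Subgroup.le_centralizer_iff_isMulCommutative.2 inferInstance
    refine (Subgroup.eq_of_le_of_card_ge hle ?_).symm
    obtain ⟨k, hk⟩ := IsPGroup.iff_card.1 (isPGroup_centralizer_subgroup hO.ipp
      (IsPGroup.of_card (n := 1) (by rw [hXc, pow_one]) : IsPGroup 3 (Subgroup.zpowers x))
      (fun e => by rw [e, Subgroup.card_bot] at hXc; omega))
    have hk1 : k ≤ 1 := by
      by_contra hlt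
      exact hcard.2 ((Nat.pow_dvd_pow 3 (show 2 ≤ k by omega)).trans (hk ▸ Subgroup.card_subgroup_dvd_card _))
    rw [hXc, hk]
    calc 3 ^ k ≤ 3 ^ 1 := Nat.pow_le_pow_right (by norm_num) hk1
      _ = 3 := pow_one 3
  rcases S3331.result (Subgroup.zpowers x) hXc hC with ⟨N, hN, -, -, hq⟩ | ⟨N, hN, -, -, ⟨e⟩⟩ | h7
  · exfalso
    rcases IsSimpleGroup.eq_bot_or_eq_top_of_normal N hN with e | e
    · subst e
      have hG : Nat.card G = 3 ∨ Nat.card G = 6 := by
        rw [← Nat.card_congr (QuotientGroup.quotientBot (G := G)).toEquiv]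
        rcases hq with h | f
        · exact Or.inl h
        · obtain ⟨f⟩ := f
          exact Or.inr (by rw [Nat.card_congr f.toEquiv, Nat.card_perm]; norm_num [Nat.factorial])
      refine hns (Char.isSolvable_of_two_primes Nat.prime_two Nat.prime_three (Nat.card G) rfl fun r hr hd => ?_)
      have : r ∣ 2 * 3 := by rcases hG with e | e <;> rw [e] at hd
                             · exact dvd_mul_of_dvd_right hd 2
                             · exact hd
      rcases hr.dvd_mul.1 this with h | h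
      · exact Or.inl ((Nat.prime_dvd_prime_iff_eq hr Nat.prime_two).1 h)
      · exact Or.inr ((Nat.prime_dvd_prime_iff_eq hr Nat.prime_three).1 h)
    · subst e
      have h1 : Nat.card (G ⧸ (⊤ : Subgroup G)) = 1 := by rw [← Subgroup.index_eq_card, Subgroup.index_top]
      rcases hq with h | f
      · omega
      · obtain ⟨f⟩ := f
        rw [Nat.card_congr f.toEquiv, Nat.card_perm] at h1
        norm_num [Nat.factorial] at h1
  · exfalso
    have h60 : Nat.card (alternatingGroup (Fin 5)) = 60 := by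
      have := two_mul_nat_card_alternatingGroup (α := Fin 5)
      rw [Nat.card_perm, Nat.card_fin, show Nat.factorial 5 = 120 from rfl] at this
      omega
    have hd := N.card_eq_card_quotient_mul_card_subgroup
    rw [Nat.card_congr e.toEquiv, h60] at hd
    exact hO.not_five (hd ▸ dvd_mul_of_dvd_left (by norm_num) _)
  · exact h7

end Cfsg.Agent.Solv.EPPOSeven
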